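import Mathlib
import Cfsg.Agent.H722.RealP
import Cfsg.Agent.H469.NBr

/-!
# Table T(S, p): general lemmas

`TT p S`: `S` has a real element of order `p` or cyclic Sylow `p`-subgroups.

* `HasReal` of `G / Z`, `Z` central; of the commutator subgroup of a group containing a perfect group with `HasReal`;
* `TT.of_surj`: `TT` passes to central quotients;
* `nonc`: a non-cyclic `p`-group of linear maps, `p` prime to the characteristic, contains commuting `a ≠ 1, b` of
  order dividing `p` with a vector fixed by `a` and not by `b`;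
* `le_finrank`, `two_le_finrank`: the dimension of the space is at least the order `e` of `q` mod `p` (`2 e` for
  non-cyclic `p`-groups).
-/

set_option autoImplicit false

namespace Cfsg.Agent.H501.RealGen

open Cfsg.Agent.H722.RealP Subgroup

/-- real element of order `p` or cyclic Sylow `p`-subgroups -/
def TT (p : ℕ) (S : Type*) [Group S] : Prop := HasReal p S ∨ ∀ P : Subgroup S, IsPGroup p P → IsCyclic P

theorem TT.sylow {p : ℕ} {S : Type*} [Group S] (h : TT p S) : HasReal p S ∨ ∀ P : Sylow p S, IsCyclic P :=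
  h.imp id fun h P => h P P.isPGroup'

/-- a real element -/
theorem hasReal_of_conj {G : Type*} [Group G] [Finite G] {p : ℕ} (hp : p.Prime) {x : G} (hx : x ^ p = 1)
    (hx1 : x ≠ 1) (h : IsConj x x⁻¹) : HasReal p G :=
  have : Fact p.Prime := ⟨hp⟩
  hasReal_of_isConj (orderOf_eq_prime_iff.2 ⟨hx, hx1⟩ : orderOf x = p) h

theorem HasReal.map_of_ne {p : ℕ} (hp : p.Prime) {G Y : Type*} [Group G] [Finite G] [Group Y] [Finite Y]
    (f : Y →* G) {x g : Y} (hx : x ^ p = 1) (h : g * x * g⁻¹ = x⁻¹) (hf : f x ≠ 1) : HasReal p G := by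
  refine hasReal_of_conj hp (x := f x) (by rw [← map_pow, hx, map_one]) hf ?_
  rw [isConj_iff]
  exact ⟨f g, by rw [← map_inv, ← map_mul, ← map_mul, h, map_inv]⟩

/-- `HasReal` passes to central quotients. -/
theorem HasReal.of_surj {p : ℕ} (hp : p.Prime) (hp2 : p ≠ 2) {G Y : Type*} [Group G] [Finite G] [Group Y]
    [Finite Y] (f : Y →* G) (hf : f.ker ≤ center Y) (h : HasReal p Y) : HasReal p G := by
  obtain ⟨x, t, hx, -, ht⟩ := h
  refine HasReal.map_of_ne hp f (x := x) (g := t) (by rw [← hx]; exact pow_orderOf_eq_one x) ht ?_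
  intro h1
  have h2 : x ∈ center Y := hf h1
  rw [mem_center_iff] at h2
  rw [h2 t, mul_inv_cancel_right] at ht
  have h3 : x ^ 2 = 1 := by rw [pow_two, mul_eq_one_iff_eq_inv]; exact ht
  have h4 : orderOf x ∣ 2 := orderOf_dvd_of_pow_eq_one h3
  rw [hx, Nat.prime_dvd_prime_iff_eq hp Nat.prime_two] at h4
  exact hp2 h4

theorem HasReal.quot {p : ℕ} (hp : p.Prime) (hp2 : p ≠ 2) {G : Type*} [Group G] [Finite G] (N : Subgroup G)
    [N.Normal] (hN : N ≤ center G) (h : HasReal p G) : HasReal p (G ⧸ N) :=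
  HasReal.of_surj hp hp2 (QuotientGroup.mk' N) (by rw [QuotientGroup.ker_mk']; exact hN) h

/-- `HasReal` in a perfect subgroup gives `HasReal` of the commutator subgroup. -/
theorem HasReal.to_commutator {p : ℕ} {L X : Type*} [Group L] [Group X] (hL : commutator L = ⊤) (f : L →* X)
    (hf : Function.Injective f) (h : HasReal p L) : HasReal p (commutator X) := by
  have h1 : ∀ x : L, f x ∈ commutator X := by
    intro x
    have h2 : x ∈ commutator L := by rw [hL]; exact mem_top x
    have h3 : f x ∈ (commutator L).map f := ⟨x, h2, rfl⟩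
    rw [map_commutator_eq] at h3
    exact (commutator_mono le_top le_top) h3
  exact HasReal.map_injective (f.codRestrict (commutator X) h1)
    (fun a b hab => hf (congrArg Subtype.val hab)) h

theorem TT.of_surj {p : ℕ} [Fact p.Prime] (hp2 : p ≠ 2) {G Y : Type*} [Group G] [Finite G] [Group Y]
    [Finite Y] (f : Y →* G) (hs : Function.Surjective f) (hf : f.ker ≤ center Y) (h : TT p Y) : TT p G := by
  rcases h with h | h
  · exact Or.inl (HasReal.of_surj Fact.out hp2 f hf h)
  · exact Or.inr fun P hP => Cfsg.Agent.H469.isCyclic_of_surj f hs h P hP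

theorem TT.quot {p : ℕ} [Fact p.Prime] (hp2 : p ≠ 2) {G : Type*} [Group G] [Finite G] (N : Subgroup G)
    [N.Normal] (hN : N ≤ center G) (h : TT p G) : TT p (G ⧸ N) :=
  TT.of_surj hp2 (QuotientGroup.mk' N) (QuotientGroup.mk'_surjective N) (by rw [QuotientGroup.ker_mk']; exact hN) h

theorem TT.congr {p : ℕ} {G Y : Type*} [Group G] [Group Y] (e : G ≃* Y) (h : TT p Y) : TT p G := by
  rcases h with h | h
  · exact Or.inl (HasReal.map_equiv e.symm h)
  · refine Or.inr fun P hP => ?_
    have h1 := h (P.map e.toMonoidHom) (hP.map _)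
    exact isCyclic_of_injective (P.equivMapOfInjective e.toMonoidHom e.injective).toMonoidHom (MulEquiv.injective _)

/-! ### Linear groups -/

section Lin

variable {F V : Type*} [Field F] [Finite F] [AddCommGroup V] [Module F V] [FiniteDimensional F V]

theorem natCast_ne_zero {p : ℕ} (hp : p.Prime) (hpF : ¬ p ∣ Nat.card F) : (p : F) ≠ 0 := by
  obtain ⟨r, hrc⟩ := CharP.exists F
  have hr : r.Prime := (CharP.char_is_prime_or_zero F r).resolve_right (CharP.char_ne_zero_of_finite F r)
  have : Fact r.Prime := ⟨hr⟩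
  intro h0
  rw [CharP.cast_eq_zero_iff F r, Nat.prime_dvd_prime_iff_eq hr hp] at h0
  subst h0
  apply hpF
  have : Fintype F := Fintype.ofFinite F
  obtain ⟨k, -, hk⟩ := FiniteField.card F r
  rw [Nat.card_eq_fintype_card, hk]
  exact dvd_pow_self r k.ne_zero

theorem finite_space (F : Type*) {V : Type*} [Field F] [Finite F] [AddCommGroup V] [Module F V]
    [FiniteDimensional F V] : Finite V := Module.finite_of_finite F

/-- A non-cyclic `p`-group acting faithfully on `V`. -/
theorem nonc {X : Type*} [Group X] [Finite X] (ρ : X →* Module.End F V) (hρ : Function.Injective ρ) {p : ℕ}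
    [hp : Fact p.Prime] (hp2 : p ≠ 2) (hpF : ¬ p ∣ Nat.card F) {P : Subgroup X} (hP : IsPGroup p P)
    (hnc : ¬ IsCyclic P) : ∃ a b : X, a ∈ P ∧ b ∈ P ∧ a * b = b * a ∧ a ^ p = 1 ∧ b ^ p = 1 ∧ a ≠ 1 ∧
      ∃ v, ρ a v = v ∧ ρ b v ≠ v := by
  have : Finite V := finite_space F
  obtain ⟨A, hAP, hA, hcomm, hexp⟩ := Cfsg.Agent.H469.exists_sq hp2 hP hnc
  have hpV : ∀ v : V, p • v = 0 → v = 0 := by
    intro v hv
    have h6 : (p : F) • v = 0 := by rw [← hv, Nat.cast_smul_eq_nsmul]
    exact (smul_eq_zero.mp h6).resolve_left (natCast_ne_zero hp.out hpF)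
  let φ : A →* AddMonoid.End V :=
    { toFun := fun a => (ρ a).toAddMonoidHom
      map_one' := by
        apply AddMonoidHom.ext
        intro v
        change ρ ((1 : A) : X) v = v
        rw [OneMemClass.coe_one, map_one]
        rfl
      map_mul' := fun a b => by
        apply AddMonoidHom.ext
        intro v
        change ρ ((a * b : A) : X) v = ρ a (ρ b v)
        rw [Subgroup.coe_mul, map_mul]
        rfl }
  obtain ⟨a, v, b, ha, hav, hbv⟩ := Cfsg.Agent.H469.exists_fix (A := A)
    (fun a b => Subtype.ext (hcomm a a.2 b b.2)) (Cfsg.Agent.H469.not_isCyclic_of_sq hp.out hA hexp) φ (p := p)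
    (fun a => Subtype.ext (hexp a a.2)) hpV (by
      have hnt : Nontrivial A := by
        rw [← Finite.one_lt_card_iff_nontrivial, hA]
        exact Nat.one_lt_pow two_ne_zero hp.out.one_lt
      obtain ⟨a, ha⟩ := exists_ne (1 : A)
      by_contra hcon
      push Not at hcon
      apply ha
      apply Subtype.ext
      apply hρ
      rw [OneMemClass.coe_one, map_one]
      ext v
      exact hcon a v)
  exact ⟨a, b, hAP a.2, hAP b.2, hcomm a a.2 b b.2, hexp a a.2, hexp b b.2, fun h => ha (Subtype.ext h), v, hav, hbv⟩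

/-- `p ∣ q ^ k - 1` iff `e ∣ k` -/
theorem dvd_pow_sub_one_iff {p q : ℕ} (hq : q ≠ 0) (k : ℕ) : p ∣ q ^ k - 1 ↔ orderOf (q : ZMod p) ∣ k := by
  rw [orderOf_dvd_iff_pow_eq_one, ← Nat.cast_pow, ← ZMod.natCast_eq_zero_iff, Nat.cast_sub (Nat.one_le_iff_ne_zero.2
    (pow_ne_zero k hq)), Nat.cast_one, sub_eq_zero]

theorem prime_dvd_card_GL {n : ℕ} {p : ℕ} (hp : p.Prime) (hpF : ¬ p ∣ Nat.card F)
    (h : p ∣ Nat.card (GL (Fin n) F)) : ∃ i, 0 < i ∧ i ≤ n ∧ p ∣ Nat.card F ^ i - 1 := by
  have : Fintype F := Fintype.ofFinite F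
  rw [Nat.card_eq_fintype_card] at hpF ⊢
  rw [Matrix.card_GL_field, Prime.dvd_finsetProd_iff hp.prime] at h
  obtain ⟨i, -, hi⟩ := h
  have h1 : Fintype.card F ^ n - Fintype.card F ^ (i : ℕ) =
      Fintype.card F ^ (i : ℕ) * (Fintype.card F ^ (n - i) - 1) := by
    rw [Nat.mul_sub, mul_one, ← pow_add, Nat.add_sub_cancel' i.2.le]
  rw [h1] at hi
  rcases hp.dvd_mul.1 hi with h2 | h2
  · exact absurd (hp.dvd_of_dvd_pow h2) hpF
  · exact ⟨n - i, Nat.sub_pos_of_lt i.2, Nat.sub_le _ _, h2⟩

theorem le_finrank {p : ℕ} [hp : Fact p.Prime] (hpF : ¬ p ∣ Nat.card F) {T : Module.End F V} (hT : T ^ p = 1)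
    (hT1 : T ≠ 1) : orderOf (Nat.card F : ZMod p) ≤ Module.finrank F V := by
  let u : (Module.End F V)ˣ := ⟨T, T ^ (p - 1), by rw [← pow_succ', Nat.sub_add_cancel hp.out.one_lt.le, hT],
    by rw [← pow_succ, Nat.sub_add_cancel hp.out.one_lt.le, hT]⟩
  have hu : orderOf u = p := by
    rw [orderOf_eq_prime_iff]
    exact ⟨Units.ext hT, fun h => hT1 (congrArg Units.val h)⟩
  let e : (Module.End F V) ≃* Matrix (Fin (Module.finrank F V)) (Fin (Module.finrank F V)) F :=
    (LinearMap.toMatrixAlgEquiv (Module.finBasis F V)).toMulEquiv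
  have h1 : p ∣ Nat.card (GL (Fin (Module.finrank F V)) F) := by
    have h2 : orderOf ((Units.mapEquiv e) u) = p := by rw [MulEquiv.orderOf_eq, hu]
    rw [← h2]
    exact orderOf_dvd_natCard _
  obtain ⟨i, hi0, hin, hi⟩ := prime_dvd_card_GL hp.out hpF h1
  rw [dvd_pow_sub_one_iff (Nat.card_pos.ne')] at hi
  exact (Nat.le_of_dvd hi0 hi).trans hin

/-- A non-cyclic `p`-group acting faithfully on `V`: the dimension is at least `2 e`. -/
theorem two_le_finrank {X : Type*} [Group X] [Finite X] (ρ : X →* Module.End F V) (hρ : Function.Injective ρ)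
    {p : ℕ} [hp : Fact p.Prime] (hp2 : p ≠ 2) (hpF : ¬ p ∣ Nat.card F) {P : Subgroup X} (hP : IsPGroup p P)
    (hnc : ¬ IsCyclic P) : 2 * orderOf (Nat.card F : ZMod p) ≤ Module.finrank F V := by
  obtain ⟨a, b, -, -, hab, hap, hbp, ha1, v, hav, hbv⟩ := nonc ρ hρ hp2 hpF hP hnc
  set A := ρ a with hA
  set B := ρ b with hB
  have hAB : A * B = B * A := by rw [hA, hB, ← map_mul, hab, map_mul]
  have hAp : A ^ p = 1 := by rw [hA, ← map_pow, hap, map_one]
  have hBp : B ^ p = 1 := by rw [hB, ← map_pow, hbp, map_one]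
  have hA1 : A ≠ 1 := fun h => ha1 (hρ (h.trans (map_one ρ).symm))
  have hABv : ∀ w, A (B w) = B (A w) := fun w => LinearMap.congr_fun hAB w
  -- `b` on the kernel of `a - 1`
  have hK : ∀ w ∈ LinearMap.ker (A - 1), B w ∈ LinearMap.ker (A - 1) := by
    intro w hw
    rw [LinearMap.mem_ker, LinearMap.sub_apply, sub_eq_zero, Module.End.one_apply] at hw ⊢
    rw [hABv, hw]
  have hpow : ∀ (W : Submodule F V) (T : Module.End F V) (hT : ∀ w ∈ W, T w ∈ W), T ^ p = 1 →
      (T.restrict hT) ^ p = 1 := by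
    intro W T hT h
    ext w
    rw [Module.End.pow_restrict, LinearMap.coe_restrict_apply, h]
    rfl
  have h1 : orderOf (Nat.card F : ZMod p) ≤ Module.finrank F (LinearMap.ker (A - 1)) := by
    refine le_finrank hpF (T := B.restrict hK) (hpow _ B hK hBp) ?_
    intro h
    apply hbv
    have hv : v ∈ LinearMap.ker (A - 1) := by
      rw [LinearMap.mem_ker, LinearMap.sub_apply, sub_eq_zero]
      exact hav
    exact congrArg Subtype.val (LinearMap.congr_fun h ⟨v, hv⟩)
  have hR : ∀ w ∈ LinearMap.range (A - 1), A w ∈ LinearMap.range (A - 1) := by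
    rintro _ ⟨w, rfl⟩
    refine ⟨A w, ?_⟩
    rw [LinearMap.sub_apply, LinearMap.sub_apply, map_sub]
    rfl
  have h2 : orderOf (Nat.card F : ZMod p) ≤ Module.finrank F (LinearMap.range (A - 1)) := by
    refine le_finrank hpF (T := A.restrict hR) (hpow _ A hR hAp) ?_
    intro h
    apply hA1
    -- `a` trivial on its range: unipotent
    have h3 : ∀ w, A (A w - w) = A w - w := by
      intro w
      have h4 : (A - 1) w ∈ LinearMap.range (A - 1) := ⟨w, rfl⟩
      exact congrArg Subtype.val (LinearMap.congr_fun h ⟨_, h4⟩)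
    ext w
    have h5 : ∀ n : ℕ, (A ^ n) w = w + n • (A w - w) := by
      intro n
      induction n with
      | zero => simp
      | succ n ih =>
        have : (A ^ (n + 1)) w = A ((A ^ n) w) := by rw [pow_succ']; rfl
        rw [this, ih, map_add, map_nsmul, h3, succ_nsmul]
        abel
    have h6 := h5 p
    rw [hAp, Module.End.one_apply] at h6
    have h7 : (p : F) • (A w - w) = 0 := by
      rw [Nat.cast_smul_eq_nsmul]
      exact left_eq_add.1 h6
    have h8 := (smul_eq_zero.mp h7).resolve_left (natCast_ne_zero hp.out hpF)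
    rw [Module.End.one_apply]
    exact sub_eq_zero.mp h8
  have h3 := LinearMap.finrank_range_add_finrank_ker (A - 1)
  omega

end Lin

end Cfsg.Agent.H501.RealGen
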