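import Mathlib
import Cfsg.Prelude.Def_Classical
import Cfsg.Agent.H501.RealGen
import Cfsg.Agent.H176.SSDet

/-!
# Table T(S, p), `S = PSL_n(F)`

`p` odd, `p ∣ |PSL_n(F)|`: a real element of order `p`, or cyclic Sylow `p`-subgroups, or `n = 2`,
`char F = p`, `|F| ≡ 3 (mod 4)`.
-/

set_option autoImplicit false

namespace Cfsg.Agent.H501.RowPSL

open Matrix Cfsg.Agent.H722.RealP Cfsg.Agent.H501.RealGen

/-! ### Arithmetic -/

/-- `e` even: `p ∣ q ^ (e / 2) + 1` -/
theorem dvd_half {p q : ℕ} [hp : Fact p.Prime] {k : ℕ} (h : orderOf (q : ZMod p) = 2 * k) (hk : 0 < k) :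
    p ∣ q ^ k + 1 := by
  rw [← ZMod.natCast_eq_zero_iff, Nat.cast_add, Nat.cast_pow, Nat.cast_one]
  have h1 : ((q : ZMod p) ^ k) * ((q : ZMod p) ^ k) = 1 := by
    rw [← pow_add, ← two_mul, ← h, pow_orderOf_eq_one]
  rcases mul_self_eq_one_iff.1 h1 with h2 | h2
  · exfalso
    have h3 := orderOf_dvd_of_pow_eq_one h2
    rw [h] at h3
    have := Nat.le_of_dvd hk h3
    omega
  · rw [h2]; ring

theorem order_pos {p q : ℕ} [hp : Fact p.Prime] (hq : ¬ p ∣ q) : 0 < orderOf (q : ZMod p) := by
  have h0 : (q : ZMod p) ≠ 0 := by rw [Ne, ZMod.natCast_eq_zero_iff]; exact hq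
  exact orderOf_pos_iff.2 (isOfFinOrder_iff_pow_eq_one.2 ⟨p - 1, Nat.sub_pos_of_lt hp.out.one_lt,
    ZMod.pow_card_sub_one_eq_one h0⟩)

section

variable {F : Type*} [Field F] [Fintype F] {n : ℕ}

/-- the natural representation -/
noncomputable def rho (F : Type*) [Field F] (n : ℕ) : SpecialLinearGroup (Fin n) F →* Module.End F (Fin n → F) :=
  (Matrix.toLinAlgEquiv' (R := F) (n := Fin n)).toMulEquiv.toMonoidHom.comp (slToMat n F)

omit [Fintype F] in
theorem rho_injective : Function.Injective (rho F n) := by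
  intro a b h
  have h1 : slToMat n F a = slToMat n F b := (Matrix.toLinAlgEquiv' (R := F) (n := Fin n)).injective h
  exact Subtype.ext h1

theorem char_coprime {F : Type*} [Field F] [Finite F] {p r : ℕ} [hp : Fact p.Prime] [hr : Fact r.Prime] [CharP F r]
    (hpF : ¬ p ∣ Nat.card F) : p.Coprime r := by
  rw [Nat.coprime_primes hp.out hr.out]
  rintro rfl
  have := natCast_ne_zero hp.out hpF
  exact this (CharP.cast_eq_zero F p)

theorem exists_char (F : Type*) [Field F] [Finite F] : ∃ r : ℕ, ∃ _ : Fact r.Prime, CharP F r := by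
  obtain ⟨r, hrc⟩ := CharP.exists F
  exact ⟨r, ⟨(CharP.char_is_prime_or_zero F r).resolve_right (CharP.char_ne_zero_of_finite F r)⟩, hrc⟩

/-- the matrix of a power -/
theorem coe_pow' {F : Type*} [Field F] {ι : Type*} [Fintype ι] [DecidableEq ι] (x : SpecialLinearGroup ι F) (k : ℕ) :
    ((x ^ k : SpecialLinearGroup ι F) : Matrix ι ι F) = (x : Matrix ι ι F) ^ k := by
  induction k with
  | zero => rw [pow_zero, pow_zero]; rfl
  | succ k ih =>
    rw [pow_succ, pow_succ, ← ih]
    rfl

/-- An element of order `p` of `SL_n(F)` with the characteristic polynomial of its inverse is real. -/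
theorem hasReal_of_charpoly {p : ℕ} [hp : Fact p.Prime] (hpF : ¬ p ∣ Nat.card F) {x : SpecialLinearGroup (Fin n) F}
    (hx : x ^ p = 1) (hx1 : x ≠ 1) (h : (x : Matrix (Fin n) (Fin n) F).charpoly =
      ((x⁻¹ : SpecialLinearGroup (Fin n) F) : Matrix (Fin n) (Fin n) F).charpoly) :
    HasReal p (SpecialLinearGroup (Fin n) F) := by
  obtain ⟨r, hr, hrc⟩ := exists_char F
  have hpr : p.Coprime r := char_coprime hpF
  have ho : orderOf x = p := orderOf_eq_prime hx hx1
  exact hasReal_of_conj hp.out hx hx1 (Cfsg.Agent.H176.SSDet.sl_isConj r n x x⁻¹ (by rw [ho]; exact hpr)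
    (by rw [orderOf_inv, ho]; exact hpr) h)

/-- `e` even -/
theorem hasReal_even {p : ℕ} [hp : Fact p.Prime] (hpF : ¬ p ∣ Nat.card F) {k : ℕ}
    (he : orderOf (Nat.card F : ZMod p) = 2 * k) (hd : p ∣ Nat.card (SpecialLinearGroup (Fin n) F)) :
    HasReal p (SpecialLinearGroup (Fin n) F) := by
  obtain ⟨x, hx⟩ := exists_prime_orderOf_dvd_card' p hd
  have hk : 0 < k := by
    have := order_pos hpF
    omega
  have hxp : x ^ p = 1 := by rw [← hx]; exact pow_orderOf_eq_one x
  have hx1 : x ≠ 1 := by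
    rintro rfl
    rw [orderOf_one] at hx
    exact hp.out.one_lt.ne hx
  refine hasReal_of_charpoly hpF hxp hx1 ?_
  have h1 : x⁻¹ = x ^ (Fintype.card F ^ k) := by
    rw [inv_eq_iff_mul_eq_one, ← pow_succ']
    have := dvd_half he hk
    rw [Nat.card_eq_fintype_card] at this
    rw [← orderOf_dvd_iff_pow_eq_one, hx]
    exact this
  have h2 : ((x ^ (Fintype.card F ^ k) : SpecialLinearGroup (Fin n) F) : Matrix (Fin n) (Fin n) F) =
      (x : Matrix (Fin n) (Fin n) F) ^ (Fintype.card F ^ k) := coe_pow' _ _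
  rw [h1, h2, Cfsg.Agent.H176.SSDet.charpoly_pow_card_pow]

omit [Fintype F] in
/-- block diagonal elements -/
theorem exists_block {p : ℕ} {e k : ℕ} {A : GL (Fin e) F} (hA : A ^ p = 1) (hA1 : A ≠ 1) :
    ∃ x : SpecialLinearGroup (Fin (e + e + k)) F, x ^ p = 1 ∧ x ≠ 1 ∧
      (x : Matrix (Fin (e + e + k)) (Fin (e + e + k)) F).charpoly =
      ((x⁻¹ : SpecialLinearGroup (Fin (e + e + k)) F) : Matrix (Fin (e + e + k)) (Fin (e + e + k)) F).charpoly := by
  let ε : (Fin e ⊕ Fin e) ⊕ Fin k ≃ Fin (e + e + k) :=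
    (Equiv.sumCongr finSumFinEquiv (Equiv.refl _)).trans finSumFinEquiv
  let B : GL (Fin e) F → Matrix ((Fin e ⊕ Fin e) ⊕ Fin k) ((Fin e ⊕ Fin e) ⊕ Fin k) F := fun A =>
    fromBlocks (fromBlocks (A : Matrix (Fin e) (Fin e) F) 0 0 ((A⁻¹ : GL (Fin e) F) : Matrix (Fin e) (Fin e) F))
      0 0 1
  have hmul : ∀ M N : GL (Fin e) F, M * N = N * M → B M * B N = B (M * N) := by
    intro M N hMN
    have h1 : (((M * N)⁻¹ : GL (Fin e) F) : Matrix (Fin e) (Fin e) F) =
        ((M⁻¹ : GL (Fin e) F) : Matrix (Fin e) (Fin e) F) * ((N⁻¹ : GL (Fin e) F) : Matrix (Fin e) (Fin e) F) := by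
      rw [hMN, _root_.mul_inv_rev]; rfl
    simp only [B, fromBlocks_multiply, h1, GeneralLinearGroup.coe_mul]
    simp
  have hone : B 1 = 1 := by
    simp only [B, inv_one, Units.val_one, fromBlocks_one]
  have hdet : ∀ M : GL (Fin e) F, (B M).det = 1 := by
    intro M
    simp only [B, det_fromBlocks_zero₂₁, det_one, mul_one]
    rw [← det_mul]
    have : (M : Matrix (Fin e) (Fin e) F) * ((M⁻¹ : GL (Fin e) F) : Matrix (Fin e) (Fin e) F) = 1 := by
      rw [← GeneralLinearGroup.coe_mul, mul_inv_cancel, Units.val_one]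
    rw [this, det_one]
  have hchar : (B A).charpoly = (B A⁻¹).charpoly := by
    simp only [B, charpoly_fromBlocks_zero₂₁, inv_inv]
    rw [mul_comm ((A : Matrix (Fin e) (Fin e) F).charpoly)]
  let x : SpecialLinearGroup (Fin (e + e + k)) F := ⟨(B A).reindex ε ε, by rw [det_reindex_self, hdet]⟩
  let y : SpecialLinearGroup (Fin (e + e + k)) F := ⟨(B A⁻¹).reindex ε ε, by rw [det_reindex_self, hdet]⟩
  have hrm : ∀ M N : Matrix ((Fin e ⊕ Fin e) ⊕ Fin k) ((Fin e ⊕ Fin e) ⊕ Fin k) F,
      M.reindex ε ε * N.reindex ε ε = (M * N).reindex ε ε := by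
    intro M N
    simp only [reindex_apply]
    rw [submatrix_mul_equiv]
  have hro : (1 : Matrix ((Fin e ⊕ Fin e) ⊕ Fin k) ((Fin e ⊕ Fin e) ⊕ Fin k) F).reindex ε ε = 1 := by
    rw [reindex_apply, submatrix_one_equiv]
  have hxy : x⁻¹ = y := by
    rw [inv_eq_iff_mul_eq_one]
    apply Subtype.ext
    change (B A).reindex ε ε * (B A⁻¹).reindex ε ε = 1
    rw [hrm, hmul A A⁻¹ (by group), mul_inv_cancel, hone, hro]
  refine ⟨x, ?_, ?_, ?_⟩
  · have hpow : ∀ j : ℕ, ((x ^ j : SpecialLinearGroup (Fin (e + e + k)) F) :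
        Matrix (Fin (e + e + k)) (Fin (e + e + k)) F) = (B (A ^ j)).reindex ε ε := by
      intro j
      induction j with
      | zero => rw [pow_zero, pow_zero, hone, hro]; rfl
      | succ j ih =>
        have h1 : ((x ^ (j + 1) : SpecialLinearGroup (Fin (e + e + k)) F) :
            Matrix (Fin (e + e + k)) (Fin (e + e + k)) F) =
            ((x ^ j : SpecialLinearGroup (Fin (e + e + k)) F) : Matrix (Fin (e + e + k)) (Fin (e + e + k)) F) *
            (B A).reindex ε ε := by
          rw [pow_succ]; rfl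
        rw [h1, ih, pow_succ, ← hmul (A ^ j) A (by rw [← pow_succ, ← pow_succ']), ← hrm]
    apply Subtype.ext
    have := hpow p
    rw [hA, hone, hro] at this
    exact this
  · intro h
    apply hA1
    have h1 : (B A).reindex ε ε = (1 : Matrix ((Fin e ⊕ Fin e) ⊕ Fin k) ((Fin e ⊕ Fin e) ⊕ Fin k) F).reindex ε ε := by
      rw [hro]; exact congrArg Subtype.val h
    have h2 : B A = 1 := (reindex ε ε).injective h1
    have h3 : (fromBlocks (A : Matrix (Fin e) (Fin e) F) 0 0 ((A⁻¹ : GL (Fin e) F) : Matrix (Fin e) (Fin e) F)) = 1 := by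
      have := congrArg toBlocks₁₁ h2
      rw [← fromBlocks_one] at this
      simpa only [B, toBlocks_fromBlocks₁₁] using this
    have h4 : (A : Matrix (Fin e) (Fin e) F) = 1 := by
      have := congrArg toBlocks₁₁ h3
      rw [← fromBlocks_one] at this
      simpa only [toBlocks_fromBlocks₁₁] using this
    exact Units.ext h4
  · rw [hxy]
    change ((B A).reindex ε ε).charpoly = ((B A⁻¹).reindex ε ε).charpoly
    rw [charpoly_reindex, charpoly_reindex, hchar]

/-- elements of order `p` in `GL_e(F)` -/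
theorem exists_gl {p : ℕ} [hp : Fact p.Prime] (hpF : ¬ p ∣ Nat.card F) :
    ∃ A : GL (Fin (orderOf (Nat.card F : ZMod p))) F, A ^ p = 1 ∧ A ≠ 1 := by
  set e := orderOf (Nat.card F : ZMod p) with he
  have h0 : 0 < e := order_pos hpF
  have h1 : p ∣ Nat.card (GL (Fin e) F) := by
    rw [Matrix.card_GL_field]
    have h2 : p ∣ Fintype.card F ^ e - Fintype.card F ^ ((⟨0, h0⟩ : Fin e) : ℕ) := by
      rw [pow_zero, ← Nat.card_eq_fintype_card, dvd_pow_sub_one_iff Nat.card_pos.ne']
    exact h2.trans (Finset.dvd_prod_of_mem (fun i : Fin e => Fintype.card F ^ e - Fintype.card F ^ (i : ℕ))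
      (Finset.mem_univ _))
  obtain ⟨A, hA⟩ := exists_prime_orderOf_dvd_card' p h1
  refine ⟨A, by rw [← hA]; exact pow_orderOf_eq_one A, ?_⟩
  rintro rfl
  rw [orderOf_one] at hA
  exact hp.out.one_lt.ne hA

/-- cross characteristic -/
theorem sl_cross {p : ℕ} [hp : Fact p.Prime] (hp2 : p ≠ 2) (hpF : ¬ p ∣ Nat.card F)
    (hd : p ∣ Nat.card (SpecialLinearGroup (Fin n) F)) : TT p (SpecialLinearGroup (Fin n) F) := by
  rcases Nat.even_or_odd (orderOf (Nat.card F : ZMod p)) with he | he
  · obtain ⟨k, hk⟩ := he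
    exact Or.inl (hasReal_even hpF (k := k) (by omega) hd)
  · by_cases hn : 2 * orderOf (Nat.card F : ZMod p) ≤ n
    · obtain ⟨A, hA, hA1⟩ := exists_gl (F := F) hpF
      obtain ⟨k, rfl⟩ := Nat.exists_eq_add_of_le hn
      rw [two_mul]
      obtain ⟨x, hx, hx1, hc⟩ := exists_block (k := k) hA hA1
      exact Or.inl (hasReal_of_charpoly hpF hx hx1 hc)
    · refine Or.inr fun P hP => ?_
      by_contra hnc
      apply hn
      have := two_le_finrank (rho F n) rho_injective hp2 hpF hP hnc
      rwa [Module.finrank_fintype_fun_eq_card, Fintype.card_fin] at this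

end

/-! ### Defining characteristic -/

section Def

variable {F : Type*} [Field F] {ι : Type*} [Fintype ι] [DecidableEq ι]

/-- transvections are inverted by diagonal matrices -/
theorem transvection_inv {i j : ι} (c : F) {d : ι → F} (hd : d i = - d j) :
    diagonal d * transvection i j c = transvection i j (-c) * diagonal d := by
  have h1 : diagonal d * Matrix.single i j c = Matrix.single i j (d i * c) := by
    ext a b
    rw [diagonal_mul, Matrix.single_apply, Matrix.single_apply]
    split_ifs with h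
    · rw [h.1]
    · rw [mul_zero]
  have h2 : Matrix.single i j (-c) * diagonal d = Matrix.single i j (-c * d j) := by
    ext a b
    rw [mul_diagonal, Matrix.single_apply, Matrix.single_apply]
    split_ifs with h
    · rw [h.2]
    · rw [zero_mul]
  rw [transvection, transvection, mul_add, add_mul, h1, h2, mul_one, one_mul, hd]
  congr 2
  ring

theorem transvection_pow {i j : ι} (hij : i ≠ j) (c : F) (k : ℕ) :
    (transvection i j c) ^ k = transvection i j ((k : F) * c) := by
  induction k with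
  | zero => simp
  | succ k ih =>
    rw [pow_succ, ih, transvection_mul_transvection_same _ _ hij]
    congr 1
    push_cast
    ring

/-- A transvection of `SL(ι, F)` is inverted by an element of `SL(ι, F)` with diagonal `d`. -/
theorem hasReal_of_diag [Finite F] {p : ℕ} [hp : Fact p.Prime] [CharP F p] {i j : ι} (hij : i ≠ j) {d : ι → F}
    (hd : d i = - d j) (hdet : ∏ a, d a = 1) : HasReal p (SpecialLinearGroup ι F) := by
  let x : SpecialLinearGroup ι F := ⟨transvection i j 1, det_transvection_of_ne _ _ hij _⟩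
  let y : SpecialLinearGroup ι F := ⟨transvection i j (-1), det_transvection_of_ne _ _ hij _⟩
  let t : SpecialLinearGroup ι F := ⟨diagonal d, by rw [det_diagonal, hdet]⟩
  have hxy : x⁻¹ = y := by
    rw [inv_eq_iff_mul_eq_one]
    apply Subtype.ext
    change transvection i j 1 * transvection i j (-1) = (1 : Matrix ι ι F)
    rw [transvection_mul_transvection_same _ _ hij, add_neg_cancel, transvection_zero]
  have : Finite (SpecialLinearGroup ι F) := Subtype.finite
  refine hasReal_of_conj (x := x) hp.out ?_ ?_ ?_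
  · apply Subtype.ext
    have h1 : ((x ^ p : SpecialLinearGroup ι F) : Matrix ι ι F) = (transvection i j (1 : F)) ^ p :=
      coe_pow' _ _
    refine h1.trans ?_
    change (transvection i j (1 : F)) ^ p = 1
    rw [transvection_pow hij, CharP.cast_eq_zero, zero_mul, transvection_zero]
  · intro h
    have h1 : transvection i j (1 : F) = 1 := congrArg Subtype.val h
    have h2 := congrFun (congrFun h1 i) j
    rw [transvection, Matrix.add_apply, Matrix.single_apply_same, one_apply_ne hij] at h2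
    simp at h2
  · rw [isConj_iff]
    refine ⟨t, ?_⟩
    rw [hxy, mul_inv_eq_iff_eq_mul]
    apply Subtype.ext
    exact transvection_inv 1 hd

theorem sl_def [Finite F] {p : ℕ} [hp : Fact p.Prime] [CharP F p] {i j k : ι} (hij : i ≠ j) (hik : i ≠ k)
    (hjk : j ≠ k) : HasReal p (SpecialLinearGroup ι F) := by
  refine hasReal_of_diag hij (d := fun a => if a = i ∨ a = k then -1 else 1) (by simp [hij.symm, hjk]) ?_
  have h1 : ∏ a, (if a = i ∨ a = k then (-1 : F) else 1) = ∏ a ∈ ({i, k} : Finset ι), (-1 : F) := by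
    rw [Finset.prod_ite, Finset.prod_const_one, mul_one]
    apply Finset.prod_congr _ (fun _ _ => rfl)
    ext a
    simp
  rw [h1, Finset.prod_const, Finset.card_pair hik]
  norm_num

theorem sl_two_def [Finite F] {p : ℕ} [hp : Fact p.Prime] [CharP F p] (hs : IsSquare (-1 : F)) :
    HasReal p (SpecialLinearGroup (Fin 2) F) := by
  obtain ⟨c, hc⟩ := hs
  have hc0 : c ≠ 0 := by rintro rfl; simp at hc
  refine hasReal_of_diag (i := 0) (j := 1) (by decide) (d := ![c, -c]) (by simp) ?_
  rw [Fin.prod_univ_two]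
  simp only [Matrix.cons_val_zero, Matrix.cons_val_one]
  rw [mul_neg, ← hc, neg_neg]

end Def

/-! ### The row -/

/-- the exceptional case: `PSL₂(F)`, `F` of characteristic `p` without square root of `-1` -/
def Exc (p : ℕ) (S : Type*) [Group S] : Prop :=
  ∃ (F : Type) (_ : Field F) (_ : Fintype F), CharP F p ∧ Fintype.card F % 4 = 3 ∧
    Nonempty (S ≃* Matrix.ProjectiveSpecialLinearGroup (Fin 2) F)

theorem dvd_card_of_quot {G : Type*} [Group G] [Finite G] {p : ℕ} (N : Subgroup G) [N.Normal]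
    (h : p ∣ Nat.card (G ⧸ N)) : p ∣ Nat.card G := by
  rw [Subgroup.card_eq_card_quotient_mul_card_subgroup N]
  exact h.mul_right _

theorem charP_of_dvd {F : Type*} [Field F] [Finite F] {p : ℕ} (hp : p.Prime) (h : p ∣ Nat.card F) : CharP F p := by
  have : Fintype F := Fintype.ofFinite F
  obtain ⟨r, hr, hrc⟩ := exists_char F
  obtain ⟨k, -, hk⟩ := FiniteField.card F r
  rw [Nat.card_eq_fintype_card, hk] at h
  rw [(Nat.prime_dvd_prime_iff_eq hp hr.out).1 (hp.dvd_of_dvd_pow h)]
  exact hrc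

theorem row_psl {S : Type*} [Group S] (h : Cfsg.IsPSL S) {p : ℕ} [hp : Fact p.Prime] (hp2 : p ≠ 2)
    (hd : p ∣ Nat.card S) : TT p S ∨ Exc p S := by
  obtain ⟨F, _, _, n, hn, -, ⟨e⟩⟩ := h
  by_cases hpF : p ∣ Nat.card F
  · have : CharP F p := charP_of_dvd hp.out hpF
    by_cases hn2 : n = 2
    · subst hn2
      by_cases hs : IsSquare (-1 : F)
      · exact Or.inl (TT.congr e (TT.quot hp2 _ le_rfl (Or.inl (sl_two_def hs))))
      · rw [FiniteField.isSquare_neg_one_iff, not_not] at hs
        exact Or.inr ⟨F, _, _, this, hs, ⟨e⟩⟩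
    · refine Or.inl (TT.congr e (TT.quot hp2 _ le_rfl (Or.inl ?_)))
      exact sl_def (i := (⟨0, by omega⟩ : Fin n)) (j := ⟨1, by omega⟩) (k := ⟨2, by omega⟩) (by simp) (by simp)
        (by simp)
  · refine Or.inl (TT.congr e (TT.quot hp2 _ le_rfl (sl_cross hp2 hpF ?_)))
    rw [Nat.card_congr e.toEquiv] at hd
    exact dvd_card_of_quot _ hd

end Cfsg.Agent.H501.RowPSL
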