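import Mathlib
import Cfsg.Prelude.Def_Classical
import Cfsg.Agent.H501.RealGen
import Cfsg.Agent.H501.RowPSL
import Cfsg.Agent.S2586
import Cfsg.Agent.S2589
import Cfsg.Agent.H982.LawFam

/-!
# Table T(S, p), `S = PSp_{2m}(F)`

`p` odd, `p ∣ |PSp_{2m}(F)|`, `m ≥ 2`: there is a real element of order `p`.
-/

set_option autoImplicit false

namespace Cfsg.Agent.H501.RowPSp

open Matrix Cfsg.Agent.H722.RealP Cfsg.Agent.H501.RealGen Cfsg.Agent.H501.RowPSL

/-- A transvection of `GL(ι, F)` is real. -/
theorem gl_def {F : Type*} [Field F] {ι : Type*} [Fintype ι] [DecidableEq ι] [Finite F] {p : ℕ} [hp : Fact p.Prime]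
    [CharP F p] {i j : ι} (hij : i ≠ j) : HasReal p (GL ι F) := by
  let d : ι → F := fun a => if a = i then -1 else 1
  have hd : d i = - d j := by simp [d, hij.symm]
  have hdet : (diagonal d).det ≠ 0 := by
    rw [det_diagonal, Finset.prod_ne_zero_iff]
    intro a _
    simp only [d]
    split_ifs
    · exact neg_ne_zero.2 one_ne_zero
    · exact one_ne_zero
  let x : GL ι F := ⟨transvection i j 1, transvection i j (-1), by
    rw [transvection_mul_transvection_same _ _ hij, add_neg_cancel, transvection_zero], by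
    rw [transvection_mul_transvection_same _ _ hij, neg_add_cancel, transvection_zero]⟩
  let t : GL ι F := GeneralLinearGroup.mkOfDetNeZero (diagonal d) hdet
  refine hasReal_of_conj (x := x) hp.out ?_ ?_ ?_
  · apply Units.ext
    rw [Units.val_pow_eq_pow_val]
    change (transvection i j (1 : F)) ^ p = 1
    rw [transvection_pow hij, CharP.cast_eq_zero, zero_mul, transvection_zero]
  · intro h
    have h1 : transvection i j (1 : F) = 1 := congrArg Units.val h
    have h2 := congrFun (congrFun h1 i) j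
    rw [transvection, Matrix.add_apply, Matrix.single_apply_same, one_apply_ne hij] at h2
    simp at h2
  · rw [isConj_iff]
    refine ⟨t, ?_⟩
    rw [mul_inv_eq_iff_eq_mul]
    apply Units.ext
    exact transvection_inv 1 hd

variable {F : Type*} [Field F] [Fintype F] {m : ℕ}

/-- Every element of order `p` is real. -/
theorem sp_cross {p : ℕ} [hp : Fact p.Prime] (hpF : ¬ p ∣ Nat.card F)
    (hd : p ∣ Nat.card (symplecticGroup (Fin m) F)) : HasReal p (symplecticGroup (Fin m) F) := by
  obtain ⟨x, hx⟩ := exists_prime_orderOf_dvd_card' p hd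
  obtain ⟨r, hr, hrc⟩ := exists_char F
  have hpr : p.Coprime r := char_coprime hpF
  refine hasReal_of_isConj hx ?_
  rw [Cfsg.Agent.S2589.result (p := r) x x⁻¹ (by rw [hx]; exact hpr)]
  exact Cfsg.Agent.S2586.result x

theorem sp_real {p : ℕ} [hp : Fact p.Prime] (hm : 2 ≤ m)
    (hd : p ∣ Nat.card (symplecticGroup (Fin m) F)) : HasReal p (symplecticGroup (Fin m) F) := by
  by_cases hpF : p ∣ Nat.card F
  · have : CharP F p := charP_of_dvd hp.out hpF
    exact HasReal.map_injective (Cfsg.Agent.H982.LawFam.gSp F m) (Cfsg.Agent.H982.LawFam.gSp_injective F m)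
      (gl_def (i := (⟨0, by omega⟩ : Fin m)) (j := ⟨1, by omega⟩) (by simp))
  · exact sp_cross hpF hd

theorem row_psp {S : Type*} [Group S] (h : Cfsg.IsPSp S) {p : ℕ} [hp : Fact p.Prime] (hp2 : p ≠ 2)
    (hd : p ∣ Nat.card S) : HasReal p S := by
  obtain ⟨F, _, _, m, hm, -, ⟨e⟩⟩ := h
  rw [Nat.card_congr e.toEquiv] at hd
  exact HasReal.map_equiv e.symm (HasReal.quot hp.out hp2 _ le_rfl (sp_real hm (dvd_card_of_quot _ hd)))

end Cfsg.Agent.H501.RowPSp
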