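import Mathlib
import Cfsg.Prelude.Def_Classical
import Cfsg.Agent.H501.RealGen
import Cfsg.Agent.H501.RowPSL
import Cfsg.Agent.H501.RowPSp
import Cfsg.Agent.S2580
import Cfsg.Agent.S0248
import Cfsg.Agent.H193.OrthConj
import Cfsg.Agent.H175.OmegaAdjust
import Cfsg.Agent.H181.FormNondeg
import Cfsg.Agent.H982.LawFam

/-!
# Table T(S, p), orthogonal groups

`p` odd, `p ∣ |S|`, `S = PΩ_{2m+1}(F)`, `PΩ^±_{2m}(F)`: a real element of order `p`, or cyclic Sylow `p`-subgroups.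
-/

set_option autoImplicit false

namespace Cfsg.Agent.H501.RowOmega

open Matrix QuadraticMap Module Cfsg.Agent.H722.RealP Cfsg.Agent.H501.RealGen Cfsg.Agent.H501.RowPSL
open Cfsg.Agent.ClassicalGeometry.Reflection Cfsg.Agent.H175.OmegaAdjust
open Cfsg.Agent.LieClassical.OrthForms

variable {F : Type*} [Field F] {ι : Type} [Fintype ι] [DecidableEq ι]

/-- the matrix of an isometry -/
def mt {Q : (ι → F) → F} (g : Cfsg.isometryGroup F Q) : Matrix ι ι F := ((g : Matrix.GeneralLinearGroup ι F) : Matrix ι ι F)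

theorem mt_mul {Q : (ι → F) → F} (g h : Cfsg.isometryGroup F Q) : mt (g * h) = mt g * mt h := rfl

theorem mt_one {Q : (ι → F) → F} : mt (1 : Cfsg.isometryGroup F Q) = 1 := rfl

theorem mt_pow {Q : (ι → F) → F} (g : Cfsg.isometryGroup F Q) (k : ℕ) : mt (g ^ k) = mt g ^ k := by
  induction k with
  | zero => rw [pow_zero, pow_zero, mt_one]
  | succ k ih => rw [pow_succ, pow_succ, mt_mul, ih]

theorem mt_inj {Q : (ι → F) → F} {g h : Cfsg.isometryGroup F Q} (e : mt g = mt h) : g = h :=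
  Subtype.ext (Units.ext e)

/-- the natural representation -/
noncomputable def rho (Q : (ι → F) → F) : Cfsg.isometryGroup F Q →* Module.End F (ι → F) where
  toFun g := toLin' (mt g)
  map_one' := by rw [mt_one, toLin'_one]; rfl
  map_mul' g h := by rw [mt_mul, toLin'_mul]; rfl

theorem rho_apply {Q : (ι → F) → F} (g : Cfsg.isometryGroup F Q) (v : ι → F) : rho Q g v = mt g *ᵥ v :=
  toLin'_apply _ _

theorem rho_injective (Q : (ι → F) → F) : Function.Injective (rho Q) := by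
  intro g h e
  exact mt_inj (toLin'.injective e)

variable (Q : QuadraticForm F (ι → F))

theorem isom (g : Cfsg.isometryGroup F ⇑Q) (v : ι → F) : Q (mt g *ᵥ v) = Q v :=
  (mem_isometryGroup_iff ⇑Q _).1 g.2 v

theorem isom_polar (g : Cfsg.isometryGroup F ⇑Q) (v w : ι → F) :
    polar ⇑Q (mt g *ᵥ v) (mt g *ᵥ w) = polar ⇑Q v w :=
  polar_mulVec_of_isometry Q _ (isom Q g) v w

/-- Every isometry is similar to its inverse. -/
theorem similar_inv (hQ : (polarBilin Q).Nondegenerate) (g : Cfsg.isometryGroup F ⇑Q) :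
    IsConj (mt g) (mt g⁻¹) := by
  let B : Matrix ι ι F := LinearMap.toMatrix₂' F (polarBilin Q)
  have hB : ∀ v w, v ⬝ᵥ (B *ᵥ w) = polar ⇑Q v w := by
    intro v w
    have : polarBilin Q v w = v ⬝ᵥ (B *ᵥ w) := by
      have h1 := Matrix.toLinearMap₂'_apply' B v w
      rw [Matrix.toLinearMap₂'_toMatrix'] at h1
      exact h1
    rw [← this]
    rfl
  have hdet : B.det ≠ 0 := by
    have h1 := (LinearMap.BilinForm.nondegenerate_iff_det_ne_zero (Pi.basisFun F ι)).1 hQ
    exact h1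
  have hu : IsUnit B := (isUnit_iff_isUnit_det B).2 (isUnit_iff_ne_zero.2 hdet)
  have hXB : (mt g)ᵀ * B * mt g = B := by
    apply Matrix.ext_of_mulVec_single
    intro j
    apply dotProduct_eq
    intro v
    rw [dotProduct_comm, ← mulVec_mulVec, ← mulVec_mulVec, dotProduct_mulVec, vecMul_transpose, hB,
      isom_polar, dotProduct_comm, hB]
  refine (Cfsg.Agent.S2580.main (mt g)).trans ?_
  obtain ⟨u, hu⟩ := hu
  refine IsConj.symm ⟨u, ?_⟩
  change (u : Matrix ι ι F) * mt g⁻¹ = (mt g)ᵀ * u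
  rw [hu]
  have h2 : mt g * mt g⁻¹ = 1 := by rw [← mt_mul, mul_inv_cancel, mt_one]
  calc B * mt g⁻¹ = (mt g)ᵀ * B * mt g * mt g⁻¹ := by rw [hXB]
    _ = (mt g)ᵀ * B := by rw [Matrix.mul_assoc _ (mt g), h2, Matrix.mul_one]

/-- An isometry of order `p` is conjugate to its inverse in the isometry group. -/
theorem conj_inv [Finite F] (hQ : (polarBilin Q).Nondegenerate) {p : ℕ} (hp : p.Prime) (hp2 : p ≠ 2)
    (hpF : ¬ p ∣ Nat.card F) {x : Cfsg.isometryGroup F ⇑Q} (hx : x ^ p = 1) : IsConj x x⁻¹ := by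
  rw [Cfsg.Agent.H193.OrthConj.isConj_iff Q hQ x x⁻¹ (hp.odd_of_ne_two hp2) (natCast_ne_zero hp hpF) hx
    (by rw [inv_pow, hx, inv_one])]
  exact similar_inv Q hQ x

/-- the fixed space of an element of order `p` is non-degenerate -/
theorem fix_nondeg [Finite F] (hQ : (polarBilin Q).Nondegenerate) {p : ℕ} (hp : p.Prime)
    (hpF : ¬ p ∣ Nat.card F) {x : Cfsg.isometryGroup F ⇑Q} (hx : x ^ p = 1) {w : ι → F} (hw : mt x *ᵥ w = w)
    (h : ∀ y, mt x *ᵥ y = y → polar ⇑Q w y = 0) : w = 0 := by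
  have h0 : ∀ v, polar ⇑Q w v = 0 := by
    intro v
    let y := ∑ i ∈ Finset.range p, mt x ^ i *ᵥ v
    have hxp : mt x ^ p = 1 := by rw [← mt_pow, hx, mt_one]
    have hy : mt x *ᵥ y = y := by
      have h1 : mt x *ᵥ y = ∑ i ∈ Finset.range p, mt x ^ (i + 1) *ᵥ v := by
        rw [mulVec_sum]
        refine Finset.sum_congr rfl fun i _ => ?_
        rw [mulVec_mulVec, ← pow_succ']
      have h2 := Finset.sum_range_succ (fun i => mt x ^ i *ᵥ v) p
      rw [Finset.sum_range_succ'] at h2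
      simp only [pow_zero] at h2
      rw [h1]
      rw [hxp] at h2
      exact add_right_cancel h2
    have h1 := h y hy
    have h2 : ∀ i : ℕ, polar ⇑Q w (mt x ^ i *ᵥ v) = polar ⇑Q w v := by
      intro i
      induction i with
      | zero => simp
      | succ i ih =>
        rw [pow_succ', ← mulVec_mulVec]
        conv_lhs => rw [← hw]
        rw [isom_polar, ih]
    have h3 : polar ⇑Q w y = (p : F) * polar ⇑Q w v := by
      have : polar ⇑Q w y = ∑ i ∈ Finset.range p, polar ⇑Q w (mt x ^ i *ᵥ v) := by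
        change polarBilin Q w y = _
        rw [map_sum]
        rfl
      rw [this, Finset.sum_congr rfl fun i _ => h2 i, Finset.sum_const, Finset.card_range, nsmul_eq_mul]
    rw [h1] at h3
    exact (mul_eq_zero.1 h3.symm).resolve_left (natCast_ne_zero hp hpF)
  exact hQ.1 w h0

/-- An element of order `p` of `Ω` with a fixed space of dimension at least two is real in `Ω`. -/
theorem real_of_fix [Finite F] (hQ : (polarBilin Q).Nondegenerate) (hn : 4 < Fintype.card ι) {p : ℕ}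
    (hp : p.Prime) (hp2 : p ≠ 2) (hpF : ¬ p ∣ Nat.card F) {x : Cfsg.Omega F ⇑Q} (hx : x ^ p = 1) (hx1 : x ≠ 1)
    {v : ι → F} (hv0 : v ≠ 0) (hv : mt x.1 *ᵥ v = v)
    (hdim : (2 : F) ≠ 0 → 2 ≤ finrank F (LinearMap.ker (rho ⇑Q x.1 - 1))) :
    HasReal p (Cfsg.Omega F ⇑Q) := by
  have : Finite (Cfsg.isometryGroup F ⇑Q) := Subtype.finite
  have hx' : x.1 ^ p = 1 := congrArg Subtype.val hx
  obtain ⟨g, hg⟩ := isConj_iff.1 (conj_inv Q hQ hp hp2 hpF hx')
  set W : Submodule F (ι → F) := LinearMap.ker (rho ⇑Q x.1 - 1) with hW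
  have hmem : ∀ w, w ∈ W ↔ mt x.1 *ᵥ w = w := by
    intro w
    rw [hW, LinearMap.mem_ker, LinearMap.sub_apply, sub_eq_zero, rho_apply]
    rfl
  have hWn : ∀ w ∈ W, (∀ y ∈ W, polar ⇑Q w y = 0) → w = 0 := by
    intro w hw h
    exact fix_nondeg Q hQ hp hpF hx' ((hmem w).1 hw) (fun y hy => h y ((hmem y).2 hy))
  let K : Subgroup (Cfsg.isometryGroup F ⇑Q) := Subgroup.centralizer {x.1}
  have hK : ∀ u ∈ W, ∀ hu : Q u ≠ 0, reflIso Q u hu ∈ K := by
    intro u hu hQu
    rw [Subgroup.mem_centralizer_singleton_iff]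
    apply mt_inj
    rw [mt_mul, mt_mul]
    apply Matrix.ext_of_mulVec_single
    intro j
    have h1 : ∀ y, mt (reflIso Q u hQu) *ᵥ y = y - ((Q u)⁻¹ * polar ⇑Q u y) • u := by
      intro y
      change ((reflIso Q u hQu : Matrix.GeneralLinearGroup ι F) : Matrix ι ι F) *ᵥ y = _
      rw [coe_reflIso, reflectionMatrix_mulVec]
    have h2 := (hmem u).1 hu
    rw [← mulVec_mulVec, ← mulVec_mulVec, h1, h1, mulVec_sub, mulVec_smul, h2]
    have h3 : polar ⇑Q u (mt x.1 *ᵥ Pi.single j 1) = polar ⇑Q u (Pi.single j 1) := by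
      conv_lhs => rw [← h2]
      rw [isom_polar]
    rw [h3]
  have hadj : ∃ s ∈ K, g * s ∈ Cfsg.Omega F ⇑Q := by
    by_cases h2 : (2 : F) = 0
    · obtain ⟨u, huW, hu⟩ := exists_nonsing Q W ((Submodule.ne_bot_iff W).2 ⟨v, (hmem v).2 hv, hv0⟩) hWn
      exact adjust_two Q h2 hQ (Or.inr (by omega)) K u hu (hK u huW hu) g
    · have : Fintype F := Fintype.ofFinite F
      obtain ⟨c, hc⟩ := FiniteField.exists_nonsquare (F := F) (by
        intro h
        have : CharP F 2 := ringChar.of_eq h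
        exact h2 (CharP.cast_eq_zero F 2))
      have hc0 : c ≠ 0 := by
        rintro rfl
        exact hc (IsSquare.zero)
      obtain ⟨u, huW, hu⟩ := exists_value h2 Q W (hdim h2) hWn 1
      obtain ⟨w, hwW, hw⟩ := exists_value h2 Q W (hdim h2) hWn c
      have hu0 : Q u ≠ 0 := by rw [hu]; exact one_ne_zero
      have hw0 : Q w ≠ 0 := by rw [hw]; exact hc0
      exact adjust_odd_refl Q h2 hQ (by omega) K u w hu0 hw0 (by rw [hu, hw, one_mul]; exact hc)
        (hK u huW hu0) (hK w hwW hw0) g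
  obtain ⟨s, hs, hgs⟩ := hadj
  refine hasReal_of_conj hp hx hx1 (isConj_iff.2 ⟨⟨g * s, hgs⟩, ?_⟩)
  apply Subtype.ext
  change g * s * x.1 * (g * s)⁻¹ = x.1⁻¹
  have h1 : s * x.1 = x.1 * s := (Subgroup.mem_centralizer_singleton_iff.1 hs)
  rw [_root_.mul_inv_rev, mul_assoc g s, h1, ← hg]
  group

/-- cross characteristic -/
theorem omega_cross [Finite F] (hQ : (polarBilin Q).Nondegenerate) (hn : 4 < Fintype.card ι) {p : ℕ}
    [hp : Fact p.Prime] (hp2 : p ≠ 2) (hpF : ¬ p ∣ Nat.card F) : TT p (Cfsg.Omega F ⇑Q) := by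
  have : Finite (Cfsg.isometryGroup F ⇑Q) := Subtype.finite
  by_cases hc : ∀ P : Subgroup (Cfsg.Omega F ⇑Q), IsPGroup p P → IsCyclic P
  · exact Or.inr hc
  push Not at hc
  obtain ⟨P, hP, hnc⟩ := hc
  obtain ⟨a, b, -, -, hab, hap, hbp, ha1, v, hav, hbv⟩ := nonc ((rho ⇑Q).comp (Cfsg.Omega F ⇑Q).subtype)
    ((rho_injective ⇑Q).comp (Cfsg.Omega F ⇑Q).subtype_injective) hp2 hpF hP hnc
  have hav' : mt a.1 *ᵥ v = v := by rw [← rho_apply]; exact hav
  have hbv' : mt b.1 *ᵥ v ≠ v := by rw [← rho_apply]; exact hbv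
  have hv0 : v ≠ 0 := by
    rintro rfl
    exact hbv' (mulVec_zero _)
  refine Or.inl (real_of_fix Q hQ hn hp.out hp2 hpF hap ha1 hv0 hav' ?_)
  intro h2
  set W : Submodule F (ι → F) := LinearMap.ker (rho ⇑Q a.1 - 1) with hW
  have hmem : ∀ w, w ∈ W ↔ mt a.1 *ᵥ w = w := by
    intro w
    rw [hW, LinearMap.mem_ker, LinearMap.sub_apply, sub_eq_zero, rho_apply]
    rfl
  by_contra hlt
  have hvW : v ∈ W := (hmem v).2 hav'
  have hpos : 0 < finrank F W := by
    rw [Module.finrank_pos_iff]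
    exact ⟨⟨⟨v, hvW⟩, 0, fun h => hv0 (congrArg Subtype.val h)⟩⟩
  have h1 : finrank F W = 1 := by omega
  have hspan : ∀ w ∈ W, ∃ c : F, c • v = w := by
    intro w hw
    obtain ⟨c, hc⟩ := (finrank_eq_one_iff_of_nonzero' (⟨v, hvW⟩ : W)
      (fun h => hv0 (congrArg Subtype.val h))).1 h1 ⟨w, hw⟩
    exact ⟨c, congrArg Subtype.val hc⟩
  have habm : mt a.1 * mt b.1 = mt b.1 * mt a.1 := by
    rw [← mt_mul, ← mt_mul]
    exact congrArg (fun z : Cfsg.Omega F ⇑Q => mt z.1) hab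
  have hbW : mt b.1 *ᵥ v ∈ W := by
    rw [hmem, mulVec_mulVec, habm, ← mulVec_mulVec, hav']
  obtain ⟨c, hc⟩ := hspan _ hbW
  -- `Q v ≠ 0`
  have hQv : Q v ≠ 0 := by
    intro h0
    apply hv0
    refine fix_nondeg Q hQ hp.out hpF (congrArg Subtype.val hap : a.1 ^ p = 1) hav' ?_
    intro y hy
    obtain ⟨d, rfl⟩ := hspan y ((hmem y).2 hy)
    rw [polar_smul_right, polar_self', h0, mul_zero, smul_zero]
  have hc2 : c * c = 1 := by
    have h3 := isom Q b.1 v
    rw [← hc, QuadraticMap.map_smul, smul_eq_mul] at h3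
    exact mul_right_cancel₀ hQv (by rw [h3, one_mul])
  have hcp : c ^ p = 1 := by
    have h3 : ∀ i : ℕ, mt b.1 ^ i *ᵥ v = c ^ i • v := by
      intro i
      induction i with
      | zero => simp
      | succ i ih => rw [pow_succ', ← mulVec_mulVec, ih, mulVec_smul, ← hc, smul_smul, pow_succ]
    have h4 := h3 p
    rw [← mt_pow] at h4
    have h5 : b.1 ^ p = 1 := congrArg Subtype.val hbp
    rw [h5, mt_one, one_mulVec] at h4
    have h6 : (c ^ p - 1) • v = 0 := by rw [sub_smul, one_smul, ← h4, sub_self]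
    exact sub_eq_zero.1 ((smul_eq_zero.1 h6).resolve_right hv0)
  obtain ⟨j, hj⟩ := hp.out.odd_of_ne_two hp2
  have hc1 : c = 1 := by
    rw [hj, pow_succ, pow_mul, pow_two, hc2, one_pow, one_mul] at hcp
    exact hcp
  exact hbv' (by rw [← hc, hc1, one_smul])

/-- defining characteristic -/
theorem omega_def [Finite F] {m : ℕ} (hm : 3 ≤ m) {p : ℕ} [hp : Fact p.Prime] [CharP F p] {q : (ι → F) → F}
    (f : GL (Fin m) F →* Cfsg.isometryGroup F q) (hf : Function.Injective f) : HasReal p (Cfsg.Omega F q) := by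
  refine HasReal.to_commutator (Cfsg.Agent.S0248.result m hm) (f.comp Matrix.SpecialLinearGroup.toGL)
    (hf.comp ?_) (sl_def (i := (⟨0, by omega⟩ : Fin m)) (j := ⟨1, by omega⟩) (k := ⟨2, by omega⟩) (by simp)
      (by simp) (by simp))
  intro a b h
  exact Subtype.ext (congrArg Units.val h)

theorem dvd_omega [Finite F] {q : (ι → F) → F} {p : ℕ}
    (hd : p ∣ Nat.card (Cfsg.POmega F q)) : p ∣ Nat.card (Cfsg.Omega F q) :=
  dvd_card_of_quot _ hd

section Rows

variable {S : Type*} [Group S] {p : ℕ} [hp : Fact p.Prime]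

theorem row_of [Finite F] {q : (ι → F) → F} {m : ℕ} (hm : 3 ≤ m) (hp2 : p ≠ 2)
    (f : GL (Fin m) F →* Cfsg.isometryGroup F q) (hf : Function.Injective f) (Q : QuadraticForm F (ι → F))
    (hqQ : ⇑Q = q) (hQ : (polarBilin Q).Nondegenerate) (hn : 4 < Fintype.card ι)
    (e : Nonempty (S ≃* Cfsg.POmega F q)) : TT p S := by
  obtain ⟨e⟩ := e
  refine TT.congr e (TT.quot hp2 _ le_rfl ?_)
  by_cases hpF : p ∣ Nat.card F
  · have : CharP F p := charP_of_dvd hp.out hpF
    exact Or.inl (omega_def hm f hf)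
  · subst hqQ
    exact omega_cross Q hQ hn hp2 hpF

theorem row_omega_odd (h : Cfsg.IsPOmegaOdd S) (hp2 : p ≠ 2) : TT p S := by
  obtain ⟨F, _, _, m, hm, ho, e⟩ := h
  have h2 : (2 : F) ≠ 0 := by
    intro h0
    obtain ⟨r, hr, hrc⟩ := exists_char F
    have h1 : r = 2 := by
      have h3 : ((2 : ℕ) : F) = 0 := by exact_mod_cast h0
      rw [CharP.cast_eq_zero_iff F r] at h3
      exact (Nat.prime_dvd_prime_iff_eq hr.out Nat.prime_two).1 h3
    obtain ⟨k, -, hk⟩ := FiniteField.card F r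
    rw [hk, h1] at ho
    exact (Nat.not_odd_iff_even.2 ((Nat.even_pow' k.ne_zero).2 even_two)) ho
  exact row_of hm hp2 (Cfsg.Agent.H982.LawFam.gOdd F m) (Cfsg.Agent.H982.LawFam.gOdd_injective F m)
    (oddForm m F) (coe_oddForm m F) (Cfsg.Agent.H181.FormNondeg.odd_nondegenerate m F h2) (by simp; omega) e

theorem row_omega_plus (h : Cfsg.IsPOmegaPlus S) (hp2 : p ≠ 2) : TT p S := by
  obtain ⟨F, _, _, m, hm, e⟩ := h
  exact row_of (by omega) hp2 (Cfsg.Agent.H982.LawFam.gPlus F m) (Cfsg.Agent.H982.LawFam.gPlus_injective F m)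
    (plusForm m F) (coe_plusForm m F) (Cfsg.Agent.H181.FormNondeg.plus_nondegenerate m F) (by simp; omega) e

theorem row_omega_minus (h : Cfsg.IsPOmegaMinus S) (hp2 : p ≠ 2) : TT p S := by
  obtain ⟨F, _, _, m, a, b, hm, hab, e⟩ := h
  exact row_of (m := m - 1) (by omega) hp2 (Cfsg.Agent.H982.LawFam.gMinus F (m - 1) a b)
    (Cfsg.Agent.H982.LawFam.gMinus_injective F (m - 1) a b) (minusForm (m - 1) F a b) (coe_minusForm (m - 1) F a b)
    (Cfsg.Agent.H181.FormNondeg.minus_nondegenerate (m - 1) F a b hab) (by simp; omega) e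

end Rows

end Cfsg.Agent.H501.RowOmega
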