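import Cfsg.Agent.Solvable.Glauberman
import Cfsg.Agent.Solvable.UniqueOrderP

/-!
# Finite `p`-groups in which subgroups of equal order are isomorphic

Such a group is cyclic, elementary abelian, quaternion of order 8, or non-abelian of order `p ^ 3` and
exponent `p` with `p` odd.
-/

set_option autoImplicit false
open scoped Pointwise

namespace Cfsg.Agent.H501

open Subgroup

/-- Adjoining to a commutative subgroup `E` an element `c` of prime order outside `E` that centralises `E`. -/
theorem exists_adjoin {P : Type*} [Group P] [Finite P] {p : ℕ} [hp : Fact p.Prime] (E : Subgroup P)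
    (hE : ∀ a ∈ E, ∀ b ∈ E, a * b = b * a) (c : P) (hc : ∀ a ∈ E, a * c = c * a) (hcE : c ∉ E)
    (hcp : c ^ p = 1) :
    ∃ A : Subgroup P, E ≤ A ∧ c ∈ A ∧ (∀ a ∈ A, ∀ b ∈ A, a * b = b * a) ∧ Nat.card A = Nat.card E * p ∧
      ((∀ a ∈ E, a ^ p = 1) → ∀ a ∈ A, a ^ p = 1) := by
  have hcomm : ∀ (m : E) (n : zpowers c), Commute (E.subtype m) ((zpowers c).subtype n) := by
    rintro ⟨m, hm⟩ ⟨n, hn⟩
    obtain ⟨k, rfl⟩ := mem_zpowers_iff.mp hn
    have : Commute m c := hc m hm
    exact this.zpow_right k
  have hc1 : c ≠ 1 := fun h => hcE (h ▸ E.one_mem)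
  have ho : orderOf c = p := orderOf_eq_prime hcp hc1
  let f : E × zpowers c →* P := E.subtype.noncommCoprod (zpowers c).subtype hcomm
  have hf : Function.Injective f := by
    rw [MonoidHom.noncommCoprod_injective]
    refine ⟨E.subtype_injective, (zpowers c).subtype_injective, ?_⟩
    rw [range_subtype, range_subtype, disjoint_comm, zpowers_eq_closure, ← zpowers_eq_closure]
    rw [Subgroup.disjoint_def]
    intro z hz hzE
    by_contra hz1
    apply hcE
    have hoz : orderOf z = p := by
      have h1 : orderOf z ∣ p := by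
        rw [← ho]; exact orderOf_dvd_of_mem_zpowers hz
      rcases (Nat.dvd_prime hp.out).mp h1 with h2 | h2
      · exact absurd (orderOf_eq_one_iff.mp h2) hz1
      · exact h2
    have h3 : zpowers z = zpowers c := by
      apply eq_of_le_of_card_ge (zpowers_le.mpr hz)
      rw [Nat.card_zpowers, Nat.card_zpowers, ho, hoz]
    have h4 : c ∈ zpowers z := h3 ▸ mem_zpowers c
    exact (zpowers_le.mpr hzE) h4
  have key : ∀ a ∈ f.range, ∃ e ∈ E, ∃ k : ℤ, a = e * c ^ k := by
    rintro _ ⟨⟨⟨e, he⟩, ⟨n, hn⟩⟩, rfl⟩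
    obtain ⟨k, rfl⟩ := mem_zpowers_iff.mp hn
    exact ⟨e, he, k, rfl⟩
  refine ⟨f.range, ?_, ?_, ?_, ?_, ?_⟩
  · intro e he
    exact ⟨(⟨e, he⟩, 1), by simp [f]⟩
  · exact ⟨(1, ⟨c, mem_zpowers c⟩), by simp [f]⟩
  · intro a ha b hb
    obtain ⟨e, he, k, rfl⟩ := key a ha
    obtain ⟨e', he', k', rfl⟩ := key b hb
    have h1 : Commute e e' := hE e he e' he'
    have h2 : Commute e c := hc e he
    have h3 : Commute e' c := hc e' he'
    exact ((h1.mul_right (h2.zpow_right k')).mul_left
      (((h3.zpow_right k).symm).mul_right ((Commute.refl c).zpow_zpow k k')))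
  · have h5 : Nat.card f.range = Nat.card (E × zpowers c) :=
      Nat.card_congr (MonoidHom.ofInjective hf).toEquiv.symm
    rw [h5, Nat.card_prod, Nat.card_zpowers, ho]
  · intro hEp a ha
    obtain ⟨e, he, k, rfl⟩ := key a ha
    have h2 : Commute e c := hc e he
    rw [(h2.zpow_right k).mul_pow, hEp e he, one_mul, ← zpow_natCast, ← zpow_mul, mul_comm, zpow_mul,
      zpow_natCast, hcp, one_zpow]

/-- The order of `A ⊔ K` is at most the product of the orders when `A` normalises `K`. -/
theorem card_sup_le {G : Type*} [Group G] [Finite G] (A K : Subgroup G)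
    (hAK : A ≤ Subgroup.normalizer (K : Set G)) :
    Nat.card (A ⊔ K : Subgroup G) ≤ Nat.card A * Nat.card K := by
  let f : A × K → (A ⊔ K : Subgroup G) := fun x =>
    ⟨x.2 * x.1, mul_mem (mem_sup_right x.2.2) (mem_sup_left x.1.2)⟩
  have hf : Function.Surjective f := by
    rintro ⟨g, hg⟩
    obtain ⟨k, hk, a, ha, rfl⟩ := Solvable.Glauberman.exists_mul_of_mem_sup A K hAK hg
    exact ⟨(⟨a, ha⟩, ⟨k, hk⟩), rfl⟩
  rw [← Nat.card_prod]
  exact Nat.card_le_card_of_surjective f hf

/-- A nontrivial finite `p`-group has a central element of order `p`. -/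
theorem exists_central {P : Type*} [Group P] [Finite P] {p : ℕ} [hp : Fact p.Prime] (hP : IsPGroup p P)
    (hn : Nontrivial P) : ∃ z : P, z ≠ 1 ∧ z ^ p = 1 ∧ ∀ g, z * g = g * z := by
  have := hP.center_nontrivial
  have h1 : p ∣ Nat.card (center P) := by
    rcases (hP.to_subgroup (center P)).card_eq_or_dvd with h | h
    · exact absurd h (Finite.one_lt_card (α := center P)).ne'
    · exact h
  obtain ⟨⟨z, hz⟩, hzo⟩ := exists_prime_orderOf_dvd_card' p h1
  have hzo' : orderOf z = p := by
    rw [← hzo]; exact (orderOf_mk z hz).symm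
  refine ⟨z, ?_, ?_, ?_⟩
  · rintro rfl
    rw [orderOf_one] at hzo'
    exact hp.out.one_lt.ne hzo'
  · rw [← hzo', pow_orderOf_eq_one]
  · intro g
    exact (mem_center_iff.mp hz g).symm

/-- If subgroups of equal order are isomorphic and there is more than one subgroup of order `p`, the
exponent is `p`. -/
theorem pow_eq_one_of_not_uniqueP {P : Type*} [Group P] [Finite P] {p : ℕ} [hp : Fact p.Prime]
    (hP : IsPGroup p P)
    (hI : ∀ A B : Subgroup P, Nat.card A = Nat.card B → Nonempty (A ≃* B))
    (hU : ¬ Solvable.UniqueOrderP.UniqueP p P) : ∀ g : P, g ^ p = 1 := by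
  rw [Solvable.UniqueOrderP.uniqueP_def] at hU
  push Not at hU
  obtain ⟨x, y, hx1, hxp, hyp, hyx⟩ := hU
  obtain ⟨z, hz1, hzp, hzc⟩ := exists_central hP ⟨x, 1, hx1⟩
  have hzo : orderOf z = p := orderOf_eq_prime hzp hz1
  obtain ⟨w, hwp, hwz⟩ : ∃ w : P, w ^ p = 1 ∧ w ∉ zpowers z := by
    by_cases h : x ∈ zpowers z
    · refine ⟨y, hyp, fun h' => hyx ?_⟩
      have hxz : zpowers x = zpowers z := by
        apply eq_of_le_of_card_ge (zpowers_le.mpr h)
        rw [Nat.card_zpowers, Nat.card_zpowers, hzo, orderOf_eq_prime hxp hx1]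
      rw [hxz]; exact h'
    · exact ⟨x, hxp, h⟩
  have hzcomm : ∀ a ∈ zpowers z, ∀ b : P, a * b = b * a := by
    intro a ha b
    obtain ⟨k, rfl⟩ := mem_zpowers_iff.mp ha
    have : Commute z b := hzc b
    exact this.zpow_left k
  obtain ⟨A, -, -, -, hcard, hexp⟩ := exists_adjoin (p := p) (zpowers z) (fun a ha b _ => hzcomm a ha b) w
    (fun a ha => hzcomm a ha w) hwz hwp
  have hA : ∀ a ∈ A, a ^ p = 1 := by
    apply hexp
    intro a ha
    obtain ⟨k, rfl⟩ := mem_zpowers_iff.mp ha
    rw [← zpow_natCast, ← zpow_mul, mul_comm, zpow_mul, zpow_natCast, hzp, one_zpow]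
  rw [Nat.card_zpowers, hzo] at hcard
  intro g
  by_contra hg
  obtain ⟨n, hn⟩ := (IsPGroup.iff_orderOf.mp hP) g
  have hn2 : 2 ≤ n := by
    by_contra hlt
    have : n ≤ 1 := by omega
    apply hg
    apply orderOf_dvd_iff_pow_eq_one.mp
    rw [hn]
    calc p ^ n ∣ p ^ 1 := pow_dvd_pow p this
      _ = p := pow_one p
  set h : P := g ^ (p ^ (n - 2)) with hh
  have hho : orderOf h = p ^ 2 := by
    rw [hh, orderOf_pow_of_dvd (pow_ne_zero _ hp.out.ne_zero), hn]
    · rw [Nat.pow_div (by omega) hp.out.pos]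
      congr 1
      omega
    · rw [hn]; exact pow_dvd_pow p (by omega)
  obtain ⟨e⟩ := hI (zpowers h) A (by rw [Nat.card_zpowers, hho, hcard, pow_two])
  have h1 : (⟨h, mem_zpowers h⟩ : zpowers h) ^ p = 1 := by
    apply e.injective
    rw [map_pow, map_one]
    ext
    rw [coe_pow, hA _ (e _).2, coe_one]
  have h2 : h ^ p = 1 := by
    simpa using congrArg Subtype.val h1
  have h3 := orderOf_dvd_of_pow_eq_one h2
  rw [hho] at h3
  have h4 := Nat.le_of_dvd hp.out.pos h3
  have h5 := hp.out.one_lt
  nlinarith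

/-- A finite group of exponent `p` and order at least `p ^ 4` has a commutative subgroup of order
`p ^ 3`. -/
theorem exists_comm_card {P : Type*} [Group P] [Finite P] {p : ℕ} [hp : Fact p.Prime]
    (hP : IsPGroup p P) (hexp : ∀ g : P, g ^ p = 1) (hc : p ^ 3 < Nat.card P) :
    ∃ A : Subgroup P, (∀ a ∈ A, ∀ b ∈ A, a * b = b * a) ∧ Nat.card A = p ^ 3 := by
  have hp0 := hp.out.pos
  have hnt : Nontrivial P := by
    rw [← Finite.one_lt_card_iff_nontrivial]
    exact lt_of_le_of_lt (Nat.one_le_pow _ _ hp0) hc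
  obtain ⟨z, hz1, hzp, hzc⟩ := exists_central hP hnt
  have hzo : orderOf z = p := orderOf_eq_prime hzp hz1
  have hzcomm : ∀ a ∈ zpowers z, ∀ b : P, a * b = b * a := by
    intro a ha b
    obtain ⟨k, rfl⟩ := mem_zpowers_iff.mp ha
    have : Commute z b := hzc b
    exact this.zpow_left k
  have hZn : (zpowers z).Normal := by
    constructor
    intro n hn g
    rw [← hzcomm n hn g, mul_inv_cancel_right]
    exact hn
  have hZc : Nat.card (zpowers z) = p := by rw [Nat.card_zpowers, hzo]
  have hcq := Subgroup.card_eq_card_quotient_mul_card_subgroup (zpowers z)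
  rw [hZc] at hcq
  have hQ : Nontrivial (P ⧸ zpowers z) := by
    rw [← Finite.one_lt_card_iff_nontrivial]
    by_contra hle
    have h1 : Nat.card (P ⧸ zpowers z) ≤ 1 := by omega
    have h2 : Nat.card P ≤ p := by rw [hcq]; nlinarith
    have h3 : p ≤ p ^ 3 := Nat.le_self_pow (by norm_num) p
    omega
  obtain ⟨xb, hxb1, -, hxbc⟩ := exists_central (hP.to_quotient (zpowers z)) hQ
  obtain ⟨x, rfl⟩ := QuotientGroup.mk'_surjective (zpowers z) xb
  have hxz : x ∉ zpowers z := by
    intro h
    exact hxb1 ((QuotientGroup.eq_one_iff x).mpr h)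
  obtain ⟨E, hZE, hxE, hEc, hEcard, -⟩ := exists_adjoin (p := p) (zpowers z)
    (fun a ha b _ => hzcomm a ha b) x (fun a ha => hzcomm a ha x) hxz (hexp x)
  rw [hZc] at hEcard
  -- the class of `x` has at most `p` elements
  have hcl : ∀ g : P, x⁻¹ * (g * x * g⁻¹) ∈ zpowers z := by
    intro g
    rw [← QuotientGroup.eq]
    have := hxbc (QuotientGroup.mk' (zpowers z) g)
    have h1 : (QuotientGroup.mk' (zpowers z)) g * (QuotientGroup.mk' (zpowers z)) x *
      ((QuotientGroup.mk' (zpowers z)) g)⁻¹ = (QuotientGroup.mk' (zpowers z)) x := by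
      rw [← this]; group
    exact h1.symm
  have hidx : (centralizer ({x} : Set P)).index ≤ p := by
    let f : P ⧸ centralizer ({x} : Set P) → zpowers z := fun q =>
      Quotient.liftOn' q (fun g => ⟨x⁻¹ * (g * x * g⁻¹), hcl g⟩) (by
        intro a b hab
        rw [QuotientGroup.leftRel_apply, mem_centralizer_singleton_iff] at hab
        ext
        show x⁻¹ * (a * x * a⁻¹) = x⁻¹ * (b * x * b⁻¹)
        congr 1
        calc a * x * a⁻¹ = a * (x * (a⁻¹ * b)) * (a⁻¹ * b)⁻¹ * a⁻¹ := by group
          _ = a * ((a⁻¹ * b) * x) * (a⁻¹ * b)⁻¹ * a⁻¹ := by rw [hab]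
          _ = b * x * b⁻¹ := by group)
    have hf : Function.Injective f := by
      intro a b
      refine Quotient.inductionOn₂' a b ?_
      intro a b hab
      have h1 : x⁻¹ * (a * x * a⁻¹) = x⁻¹ * (b * x * b⁻¹) := congrArg Subtype.val hab
      have h2 : a * x * a⁻¹ = b * x * b⁻¹ := mul_left_cancel h1
      apply Quotient.sound'
      rw [QuotientGroup.leftRel_apply, mem_centralizer_singleton_iff]
      calc a⁻¹ * b * x = a⁻¹ * (b * x * b⁻¹) * b := by group
        _ = a⁻¹ * (a * x * a⁻¹) * b := by rw [h2]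
        _ = x * (a⁻¹ * b) := by group
    rw [Subgroup.index_eq_card, ← hZc]
    exact Nat.card_le_card_of_injective f hf
  have hCc : p ^ 2 < Nat.card (centralizer ({x} : Set P)) := by
    have h1 := Subgroup.card_mul_index (centralizer ({x} : Set P))
    by_contra hle
    have h2 : Nat.card (centralizer ({x} : Set P)) ≤ p ^ 2 := by omega
    have h3 : Nat.card P ≤ p ^ 2 * p := by rw [← h1]; exact Nat.mul_le_mul h2 hidx
    have h4 : p ^ 2 * p = p ^ 3 := by ring
    omega
  obtain ⟨c, hcC, hcE⟩ : ∃ c ∈ centralizer ({x} : Set P), c ∉ E := by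
    by_contra hall
    push Not at hall
    have h1 : Nat.card (centralizer ({x} : Set P)) ≤ Nat.card E := Subgroup.card_le_of_le hall
    rw [hEcard] at h1
    have : p * p = p ^ 2 := by ring
    omega
  have hEx : ∀ a ∈ E, a * c = c * a := by
    have h1 : E ≤ centralizer ({c} : Set P) := by
      have h2 : E = zpowers z ⊔ zpowers x := by
        symm
        apply eq_of_le_of_card_ge
        · exact sup_le hZE (zpowers_le.mpr hxE)
        · rw [hEcard]
          have h3 : zpowers z < zpowers z ⊔ zpowers x := by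
            rw [left_lt_sup, zpowers_le]; exact hxz
          have h4 : Nat.card (zpowers z) ∣ Nat.card (zpowers z ⊔ zpowers x : Subgroup P) :=
            Subgroup.card_dvd_of_le h3.le
          rw [hZc] at h4
          obtain ⟨m, hm⟩ := h4
          have h5 : Nat.card (zpowers z ⊔ zpowers x : Subgroup P) ∣ p * p := by
            rw [← hEcard]
            exact Subgroup.card_dvd_of_le (sup_le hZE (zpowers_le.mpr hxE))
          rw [hm] at h5
          have h6 : m ∣ p := Nat.dvd_of_mul_dvd_mul_left hp0 h5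
          rcases (Nat.dvd_prime hp.out).mp h6 with h7 | h7
          · exfalso
            rw [h7, mul_one] at hm
            have h8 : zpowers z = zpowers z ⊔ zpowers x :=
              eq_of_le_of_card_ge h3.le (by rw [hm, hZc])
            exact h3.ne h8
          · rw [hm, h7]
      rw [h2]
      refine sup_le ?_ ?_
      · intro a ha
        rw [mem_centralizer_singleton_iff]
        exact hzcomm a ha c
      · rw [zpowers_le, mem_centralizer_singleton_iff]
        rw [mem_centralizer_singleton_iff] at hcC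
        exact hcC.symm
    intro a ha
    exact mem_centralizer_singleton_iff.mp (h1 ha)
  obtain ⟨A, -, -, hAc, hAcard, -⟩ := exists_adjoin (p := p) E hEc c hEx hcE (hexp c)
  exact ⟨A, hAc, by rw [hAcard, hEcard]; ring⟩

/-- A non-commutative finite group of exponent `p` has a non-commutative subgroup of order `p ^ 3`. -/
theorem exists_noncomm_card {P : Type*} [Group P] [Finite P] {p : ℕ} [hp : Fact p.Prime]
    (hP : IsPGroup p P) (hexp : ∀ g : P, g ^ p = 1) (hnc : ¬ ∀ a b : P, a * b = b * a) :
    ∃ B : Subgroup P, (∃ a ∈ B, ∃ b ∈ B, a * b ≠ b * a) ∧ Nat.card B = p ^ 3 := by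
  have hp0 := hp.out.pos
  have hZtop : center P ≠ ⊤ := by
    intro h
    apply hnc
    intro a b
    have : a ∈ center P := h ▸ mem_top a
    exact (mem_center_iff.mp this b).symm
  have hQ : Nontrivial (P ⧸ center P) := by
    rw [QuotientGroup.nontrivial_iff]; exact hZtop
  obtain ⟨xb, hxb1, -, hxbc⟩ := exists_central (hP.to_quotient (center P)) hQ
  obtain ⟨x, rfl⟩ := QuotientGroup.mk'_surjective (center P) xb
  have hxz : x ∉ center P := by
    intro h
    exact hxb1 ((QuotientGroup.eq_one_iff x).mpr h)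
  rw [mem_center_iff] at hxz
  push Not at hxz
  obtain ⟨y, hy⟩ := hxz
  have hcl : x⁻¹ * (y * x * y⁻¹) ∈ center P := by
    rw [← QuotientGroup.eq]
    have := hxbc (QuotientGroup.mk' (center P) y)
    have h1 : (QuotientGroup.mk' (center P)) y * (QuotientGroup.mk' (center P)) x *
      ((QuotientGroup.mk' (center P)) y)⁻¹ = (QuotientGroup.mk' (center P)) x := by
      rw [← this]; group
    exact h1.symm
  set z : P := x⁻¹ * (y * x * y⁻¹) with hz
  have hyx : y * x * y⁻¹ = x * z := by rw [hz]; group
  have hzc : ∀ b : P, z * b = b * z := fun b => (mem_center_iff.mp hcl b).symm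
  have hzcomm : ∀ a ∈ zpowers z, ∀ b : P, a * b = b * a := by
    intro a ha b
    obtain ⟨k, rfl⟩ := mem_zpowers_iff.mp ha
    have : Commute z b := hzc b
    exact this.zpow_left k
  have hco : ∀ g : P, Nat.card (zpowers g) ≤ p := by
    intro g
    rw [Nat.card_zpowers]
    exact Nat.le_of_dvd hp0 (orderOf_dvd_of_pow_eq_one (hexp g))
  have h1 : zpowers x ≤ normalizer ((zpowers z : Subgroup P) : Set P) := by
    have : (zpowers z).Normal := by
      constructor
      intro n hn g
      rw [← hzcomm n hn g, mul_inv_cancel_right]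
      exact hn
    rw [Subgroup.normalizer_eq_top (zpowers z)]; exact le_top
  have h2 : zpowers y ≤ normalizer ((zpowers x ⊔ zpowers z : Subgroup P) : Set P) := by
    rw [zpowers_le]
    have hle : (zpowers x ⊔ zpowers z).map (MulAut.conj y).toMonoidHom ≤ zpowers x ⊔ zpowers z := by
      rw [Subgroup.map_sup, sup_le_iff]
      constructor
      · rw [MonoidHom.map_zpowers, zpowers_le]
        show y * x * y⁻¹ ∈ _
        rw [hyx]
        exact mul_mem (mem_sup_left (mem_zpowers x)) (mem_sup_right (mem_zpowers z))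
      · rw [MonoidHom.map_zpowers, zpowers_le]
        show y * z * y⁻¹ ∈ _
        rw [← hzc y, mul_inv_cancel_right]
        exact mem_sup_right (mem_zpowers z)
    have heq : (zpowers x ⊔ zpowers z).map (MulAut.conj y).toMonoidHom = zpowers x ⊔ zpowers z := by
      apply eq_of_le_of_card_ge hle
      rw [Subgroup.card_map_of_injective (MulAut.conj y).injective]
    rw [mem_normalizer_iff]
    intro h
    constructor
    · intro hh
      exact hle ⟨h, hh, rfl⟩
    · intro hh
      have h3 : y * h * y⁻¹ ∈ (zpowers x ⊔ zpowers z).map (MulAut.conj y).toMonoidHom := by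
        rw [heq]; exact hh
      obtain ⟨w, hw, hw'⟩ := h3
      have h4 : w = h := (MulAut.conj y).injective hw'
      exact h4 ▸ hw
  have hcard : Nat.card (zpowers y ⊔ (zpowers x ⊔ zpowers z) : Subgroup P) ≤ p ^ 3 := by
    calc _ ≤ Nat.card (zpowers y) * Nat.card (zpowers x ⊔ zpowers z : Subgroup P) := card_sup_le _ _ h2
      _ ≤ Nat.card (zpowers y) * (Nat.card (zpowers x) * Nat.card (zpowers z)) :=
          Nat.mul_le_mul le_rfl (card_sup_le _ _ h1)
      _ ≤ p * (p * p) := Nat.mul_le_mul (hco y) (Nat.mul_le_mul (hco x) (hco z))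
      _ = p ^ 3 := by ring
  set B : Subgroup P := zpowers y ⊔ (zpowers x ⊔ zpowers z) with hB
  have hyB : y ∈ B := mem_sup_left (mem_zpowers y)
  have hxB : x ∈ B := mem_sup_right (mem_sup_left (mem_zpowers x))
  refine ⟨B, ⟨y, hyB, x, hxB, hy⟩, ?_⟩
  obtain ⟨n, hn⟩ := IsPGroup.iff_card.mp (hP.to_subgroup B)
  have hn3 : n ≤ 3 := by
    rw [hn] at hcard
    exact (Nat.pow_le_pow_iff_right hp.out.one_lt).mp hcard
  have hn2 : ¬ n ≤ 2 := by
    intro hle
    have hcomm : ∀ a b : B, a * b = b * a := by
      interval_cases n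
      · have : Subsingleton B := (Nat.card_eq_one_iff_unique.mp (by rw [hn, pow_zero])).1
        intro a b
        exact Subsingleton.elim _ _
      · have : IsCyclic B := isCyclic_of_prime_card (p := p) (by rw [hn, pow_one])
        exact IsCyclic.isMulCommutative.is_comm.comm
      · exact (IsPGroup.isMulCommutative_of_card_eq_prime_sq hn).is_comm.comm
    exact hy (congrArg Subtype.val (hcomm ⟨y, hyB⟩ ⟨x, hxB⟩))
  have : n = 3 := by omega
  rw [hn, this]

/-- The subgroup of index two of a quaternion group whose elements have even exponent. -/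
def evenSub (n : ℕ) (hn : Even n) : Subgroup (QuaternionGroup n) where
  carrier := {g | ∀ i : ZMod (2 * n), (g = QuaternionGroup.a i ∨ g = QuaternionGroup.xa i) → Even i}
  one_mem' := by
    intro i hi
    rw [QuaternionGroup.one_def] at hi
    rcases hi with hi | hi
    · injection hi with hi
      rw [← hi]; exact Even.zero
    · cases hi
  mul_mem' := by
    have hev : Even ((n : ℕ) : ZMod (2 * n)) := by
      obtain ⟨k, hk⟩ := hn
      refine ⟨(k : ZMod (2 * n)), ?_⟩
      rw [← Nat.cast_add, ← hk]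
    intro g h hg hh i hi
    rcases g with g | g <;> rcases h with h | h
    · have h1 := hg g (Or.inl rfl)
      have h2 := hh h (Or.inl rfl)
      rw [QuaternionGroup.a_mul_a] at hi
      rcases hi with hi | hi
      · injection hi with hi
        rw [← hi]; exact h1.add h2
      · cases hi
    · have h1 := hg g (Or.inl rfl)
      have h2 := hh h (Or.inr rfl)
      rw [QuaternionGroup.a_mul_xa] at hi
      rcases hi with hi | hi
      · cases hi
      · injection hi with hi
        rw [← hi]; exact h2.sub h1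
    · have h1 := hg g (Or.inr rfl)
      have h2 := hh h (Or.inl rfl)
      rw [QuaternionGroup.xa_mul_a] at hi
      rcases hi with hi | hi
      · cases hi
      · injection hi with hi
        rw [← hi]; exact h1.add h2
    · have h1 := hg g (Or.inr rfl)
      have h2 := hh h (Or.inr rfl)
      rw [QuaternionGroup.xa_mul_xa] at hi
      rcases hi with hi | hi
      · injection hi with hi
        rw [← hi]; exact (hev.add h2).sub h1
      · cases hi
  inv_mem' := by
    have hev : Even ((n : ℕ) : ZMod (2 * n)) := by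
      obtain ⟨k, hk⟩ := hn
      refine ⟨(k : ZMod (2 * n)), ?_⟩
      rw [← Nat.cast_add, ← hk]
    intro g hg i hi
    rcases g with g | g
    · have h1 := hg g (Or.inl rfl)
      have h2 : (QuaternionGroup.a g)⁻¹ = QuaternionGroup.a (-g) := by
        apply inv_eq_of_mul_eq_one_right
        rw [QuaternionGroup.a_mul_a, add_neg_cancel, QuaternionGroup.a_zero]
      rw [h2] at hi
      rcases hi with hi | hi
      · injection hi with hi
        rw [← hi]; exact h1.neg
      · cases hi
    · have h1 := hg g (Or.inr rfl)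
      have h2 : (QuaternionGroup.xa g)⁻¹ = QuaternionGroup.xa ((n : ZMod (2 * n)) + g) := by
        apply inv_eq_of_mul_eq_one_right
        rw [QuaternionGroup.xa_mul_xa, ← QuaternionGroup.a_zero]
        congr 1
        have h3 : ((2 * n : ℕ) : ZMod (2 * n)) = 0 := ZMod.natCast_self _
        push_cast at h3
        linear_combination h3
      rw [h2] at hi
      rcases hi with hi | hi
      · cases hi
      · injection hi with hi
        rw [← hi]; exact hev.add h1

/-- The quaternion groups of order at least 16 have subgroups of equal order that are not isomorphic. -/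
theorem quaternion_not_iso (m : ℕ) (hm : 2 ≤ m)
    (hI : ∀ A B : Subgroup (QuaternionGroup (2 ^ m)), Nat.card A = Nat.card B → Nonempty (A ≃* B)) :
    False := by
  have hne : NeZero (2 ^ m) := ⟨by positivity⟩
  have hev : Even (2 ^ m) := (Nat.even_pow.mpr ⟨even_two, by omega⟩)
  set B : Subgroup (QuaternionGroup (2 ^ m)) := evenSub (2 ^ m) hev with hB
  have h1 : (QuaternionGroup.a 1 : QuaternionGroup (2 ^ m)) ∉ B := by
    intro h
    have h2 : Even (1 : ZMod (2 * 2 ^ m)) := h 1 (Or.inl rfl)
    obtain ⟨k, hk⟩ := h2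
    have h3 : (2 : ℕ) ∣ 2 * 2 ^ m := dvd_mul_right 2 _
    have h4 := congrArg (ZMod.castHom h3 (ZMod 2)) hk
    rw [map_one, map_add] at h4
    have h5 : ∀ t : ZMod 2, (1 : ZMod 2) ≠ t + t := by decide
    exact h5 _ h4
  have ha2 : (QuaternionGroup.a 2 : QuaternionGroup (2 ^ m)) ∈ B := by
    intro i hi
    rcases hi with hi | hi
    · injection hi with hi
      rw [← hi]; exact even_two
    · cases hi
  have hx0 : (QuaternionGroup.xa 0 : QuaternionGroup (2 ^ m)) ∈ B := by
    intro i hi
    rcases hi with hi | hi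
    · cases hi
    · injection hi with hi
      rw [← hi]; exact Even.zero
  have hcardQ : Nat.card (QuaternionGroup (2 ^ m)) = 2 ^ (m + 2) := by
    rw [Nat.card_eq_fintype_card, QuaternionGroup.card, pow_add]; ring
  have hdvd : Nat.card B ∣ 2 ^ (m + 2) := hcardQ ▸ Subgroup.card_subgroup_dvd_card B
  obtain ⟨k, hk, hkB⟩ := (Nat.dvd_prime_pow Nat.prime_two).mp hdvd
  have hk1 : k ≤ m + 1 := by
    by_contra hlt
    have h6 : k = m + 2 := by omega
    have h7 : B = ⊤ := by
      apply Subgroup.eq_top_of_card_eq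
      rw [hkB, hcardQ, h6]
    exact h1 (h7 ▸ mem_top _)
  set c : QuaternionGroup (2 ^ m) := (QuaternionGroup.a 1) ^ (2 ^ (m + 1 - k)) with hc
  have hco : orderOf c = 2 ^ k := by
    have h8 : orderOf (QuaternionGroup.a 1 : QuaternionGroup (2 ^ m)) = 2 ^ (m + 1) := by
      rw [QuaternionGroup.orderOf_a_one, pow_succ]; ring
    rw [hc, orderOf_pow_of_dvd (by positivity), h8, Nat.pow_div (by omega) (by norm_num)]
    · congr 1; omega
    · rw [h8]; exact pow_dvd_pow 2 (by omega)
  obtain ⟨e⟩ := hI B (zpowers c) (by rw [hkB, Nat.card_zpowers, hco])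
  have hcomm : (⟨_, ha2⟩ : B) * ⟨_, hx0⟩ = ⟨_, hx0⟩ * ⟨_, ha2⟩ := by
    apply e.injective
    rw [map_mul, map_mul]
    exact IsMulCommutative.is_comm.comm _ _
  have h9 := congrArg Subtype.val hcomm
  rw [coe_mul, coe_mul, QuaternionGroup.a_mul_xa, QuaternionGroup.xa_mul_a] at h9
  injection h9 with h9
  have h10 : ((4 : ℕ) : ZMod (2 * 2 ^ m)) = 0 := by
    push_cast
    linear_combination -h9
  rw [ZMod.natCast_eq_zero_iff] at h10
  have h11 := Nat.le_of_dvd (by norm_num) h10
  have h12 : 2 ^ 2 ≤ 2 ^ m := Nat.pow_le_pow_right (by norm_num) hm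
  omega

/-- Finite `p`-groups in which any two subgroups of the same order are isomorphic. -/
theorem types_of_iso {P : Type*} [Group P] [Finite P] {p : ℕ} [hp : Fact p.Prime] (hP : IsPGroup p P)
    (hI : ∀ A B : Subgroup P, Nat.card A = Nat.card B → Nonempty (A ≃* B)) :
    IsCyclic P ∨ ((∀ a b : P, a * b = b * a) ∧ ∀ a : P, a ^ p = 1) ∨
      (p = 2 ∧ Nonempty (P ≃* QuaternionGroup 2)) ∨
      (p ≠ 2 ∧ (¬ ∀ a b : P, a * b = b * a) ∧ Nat.card P = p ^ 3 ∧ ∀ a : P, a ^ p = 1) := by
  by_cases hU : Solvable.UniqueOrderP.UniqueP p P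
  · rcases Solvable.UniqueOrderP.cyclic_or_quaternion hP hU with h | ⟨h2, m, hm, ⟨e⟩⟩
    · exact Or.inl h
    · right; right; left
      refine ⟨h2, ?_⟩
      by_cases hm2 : 2 ≤ m
      · exfalso
        apply quaternion_not_iso m hm2
        intro A B hAB
        obtain ⟨f⟩ := hI (A.map e.symm.toMonoidHom) (B.map e.symm.toMonoidHom) (by
          rw [Subgroup.card_map_of_injective e.symm.injective,
            Subgroup.card_map_of_injective e.symm.injective, hAB])
        exact ⟨(A.equivMapOfInjective _ e.symm.injective).trans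
          (f.trans (B.equivMapOfInjective _ e.symm.injective).symm)⟩
      · have : m = 1 := by omega
        subst this
        exact ⟨e⟩
  · have hexp := pow_eq_one_of_not_uniqueP hP hI hU
    by_cases hc : ∀ a b : P, a * b = b * a
    · exact Or.inr (Or.inl ⟨hc, hexp⟩)
    · right; right; right
      refine ⟨?_, hc, ?_, hexp⟩
      · rintro rfl
        apply hc
        intro a b
        have h1 : ∀ g : P, g⁻¹ = g := fun g => by
          rw [inv_eq_iff_mul_eq_one, ← pow_two]; exact hexp g
        calc a * b = (a * b)⁻¹ := (h1 _).symm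
          _ = b⁻¹ * a⁻¹ := mul_inv_rev a b
          _ = b * a := by rw [h1, h1]
      · obtain ⟨B, ⟨a, ha, b, hb, hab⟩, hB⟩ := exists_noncomm_card hP hexp hc
        have hle : p ^ 3 ≤ Nat.card P := hB ▸ Subgroup.card_le_card_group B
        by_contra hne
        obtain ⟨A, hA, hAc⟩ := exists_comm_card hP hexp (lt_of_le_of_ne hle (Ne.symm hne))
        obtain ⟨f⟩ := hI B A (by rw [hB, hAc])
        apply hab
        have h2 : (⟨a, ha⟩ : B) * ⟨b, hb⟩ = ⟨b, hb⟩ * ⟨a, ha⟩ := by
          apply f.injective
          rw [map_mul, map_mul]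
          ext
          exact hA _ (f _).2 _ (f _).2
        exact congrArg Subtype.val h2

end Cfsg.Agent.H501
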