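import Cfsg.Agent.H501.EqOrder
import Cfsg.Prelude.Def_Transfer

/-!
# Finite groups in which any two `p`-subgroups of the same order are conjugate

* `iso_of_conj`: subgroups of a Sylow `p`-subgroup of equal order are isomorphic.
* `sylow_types`: the possible types of a Sylow `p`-subgroup.
-/

set_option autoImplicit false

namespace Cfsg.Agent.H501

open Subgroup

/-- Any two `p`-subgroups of `G` of the same order are conjugate. -/
def EqConj (p : ℕ) (G : Type*) [Group G] : Prop :=
  ∀ H K : Subgroup G, IsPGroup p H → IsPGroup p K → Nat.card H = Nat.card K →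
      ∃ g : G, K = H.map (MulAut.conj g).toMonoidHom

/-- Subgroups of a `p`-subgroup of equal order are isomorphic. -/
theorem EqConj.iso {G : Type*} [Group G] {p : ℕ} (hC : EqConj p G) (P : Subgroup G) (hP : IsPGroup p P)
    (A B : Subgroup P) (hAB : Nat.card A = Nat.card B) : Nonempty (A ≃* B) := by
  have hA : IsPGroup p (A.map P.subtype) := (hP.to_subgroup A).map _
  have hB : IsPGroup p (B.map P.subtype) := (hP.to_subgroup B).map _
  obtain ⟨g, hg⟩ := hC (A.map P.subtype) (B.map P.subtype) hA hB (by
    rw [Subgroup.card_map_of_injective P.subtype_injective,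
      Subgroup.card_map_of_injective P.subtype_injective, hAB])
  refine ⟨(A.equivMapOfInjective _ P.subtype_injective).trans
    (((A.map P.subtype).equivMapOfInjective _ (MulAut.conj g).injective).trans
      ((MulEquiv.subgroupCongr hg.symm).trans (B.equivMapOfInjective _ P.subtype_injective).symm))⟩

/-- The possible types of a `p`-subgroup. -/
theorem EqConj.types {G : Type*} [Group G] [Finite G] {p : ℕ} [hp : Fact p.Prime] (hC : EqConj p G)
    (P : Subgroup G) (hP : IsPGroup p P) :
    IsCyclic P ∨ Cfsg.IsElementaryAbelian p P ∨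
      (p = 2 ∧ Nonempty (P ≃* QuaternionGroup 2)) ∨
      (p ≠ 2 ∧ ¬ IsMulCommutative P ∧ Nat.card P = p ^ 3 ∧ Monoid.exponent P = p) := by
  rcases types_of_iso hP (hC.iso P hP) with h | ⟨h1, h2⟩ | h | ⟨h1, h2, h3, h4⟩
  · exact Or.inl h
  · right; left
    exact ⟨⟨⟨h1⟩⟩, fun a ha => congrArg Subtype.val (h2 ⟨a, ha⟩)⟩
  · exact Or.inr (Or.inr (Or.inl h))
  · right; right; right
    refine ⟨h1, fun h => h2 h.is_comm.comm, h3, ?_⟩
    have h5 : Monoid.exponent P ∣ p := Monoid.exponent_dvd_of_forall_pow_eq_one h4
    rcases (Nat.dvd_prime hp.out).mp h5 with h6 | h6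
    · exfalso
      have h8 : ∀ a : P, a = 1 := fun a => by
        have h9 := Monoid.pow_exponent_eq_one a
        rwa [h6, pow_one] at h9
      have : Subsingleton P := ⟨fun a b => by rw [h8 a, h8 b]⟩
      have h7 : Nat.card P = 1 := Nat.card_of_subsingleton 1
      rw [h7] at h3
      have := Nat.one_lt_pow (n := 3) (by norm_num) hp.out.one_lt
      omega
    · exact h6

end Cfsg.Agent.H501
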