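import Cfsg.Agent.H501.SolvTrans
import Cfsg.Agent.PermutationGroups.KantorCoord
import Cfsg.Agent.Lib.Zsigmondy
import Cfsg.Agent.Solvable.HallAux
import Cfsg.Agent.S0003

/-!
# Linear groups whose order is divisible by primitive prime divisors

`H` acts on the additive group `V` of order `p ^ n`.
-/

set_option autoImplicit false

namespace Cfsg.Agent.H501.LinPrim

open Subgroup

variable {V : Type*} [AddCommGroup V] [Finite V] {H : Type*} [Group H] [DistribMulAction H V]

/-- The fixed vectors of a subgroup. -/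
def fixS (V : Type*) [AddCommGroup V] {H : Type*} [Group H] [DistribMulAction H V] (M : Subgroup H) :
    AddSubgroup V where
  carrier := {v | ∀ m ∈ M, m • v = v}
  zero_mem' := fun m _ => smul_zero m
  add_mem' := fun {a b} ha hb m hm => by rw [smul_add, ha m hm, hb m hm]
  neg_mem' := fun {a} ha m hm => by rw [smul_neg, ha m hm]

theorem mem_fixS (M : Subgroup H) (v : V) : v ∈ fixS V M ↔ ∀ m ∈ M, m • v = v := Iff.rfl

/-- Counting fixed vectors of an `ℓ`-group in an invariant subgroup. -/
theorem card_modEq {l : ℕ} [Fact l.Prime] (M : Subgroup H) (hM : IsPGroup l M) (W : AddSubgroup V)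
    (hW : ∀ m ∈ M, ∀ w ∈ W, m • w ∈ W) :
    Nat.card W ≡ Nat.card (W ⊓ fixS V M : AddSubgroup V) [MOD l] := by
  let : MulAction M W :=
    { smul := fun m w => ⟨(m : H) • (w : V), hW m m.2 w w.2⟩
      one_smul := fun w => Subtype.ext (one_smul H (w : V))
      mul_smul := fun m m' w => Subtype.ext (mul_smul (m : H) (m' : H) (w : V)) }
  have h1 := hM.card_modEq_card_fixedPoints (α := W)
  have h2 : Nat.card (MulAction.fixedPoints M W) = Nat.card (W ⊓ fixS V M : AddSubgroup V) := by
    refine Nat.card_congr ⟨fun w => ⟨w.1.1, w.1.2, fun m hm => ?_⟩,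
      fun w => ⟨⟨w.1, w.2.1⟩, fun m => ?_⟩, fun w => rfl, fun w => rfl⟩
    · exact congrArg Subtype.val (w.2 ⟨m, hm⟩)
    · exact Subtype.ext (w.2.2 m m.2)
  rwa [h2] at h1

theorem exists_card {p n : ℕ} (hp : p.Prime) (hV : Nat.card V = p ^ n) (W : AddSubgroup V) :
    ∃ k ≤ n, Nat.card W = p ^ k :=
  (Nat.dvd_prime_pow hp).mp (hV ▸ AddSubgroup.card_addSubgroup_dvd_card W)

/-- `p ^ a ≡ p ^ b` modulo a primitive prime divisor of `p ^ n - 1`. -/
theorem dvd_sub_of_modEq {p n r a b : ℕ} (hp : p.Prime) (hr : r.Prime) (hrp : ¬ r ∣ p)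
    (hprim : ∀ m, r ∣ p ^ m - 1 ↔ n ∣ m) (hba : b ≤ a) (h : p ^ a ≡ p ^ b [MOD r]) : n ∣ a - b := by
  rw [← hprim]
  have h1 : p ^ b * p ^ (a - b) ≡ p ^ b * 1 [MOD r] := by
    rw [← pow_add, mul_one]
    rwa [show b + (a - b) = a by omega]
  have h2 : Nat.Coprime r (p ^ b) := Nat.Coprime.pow_right b ((Nat.Prime.coprime_iff_not_dvd hr).mpr hrp)
  have h3 := Nat.ModEq.cancel_left_of_coprime h2 h1
  exact (Nat.modEq_iff_dvd' (Nat.one_le_pow _ _ hp.pos)).mp h3.symm

variable [FaithfulSMul H V]

/-- A nontrivial `r`-group has no fixed vectors, `r` a primitive prime divisor of `p ^ n - 1`. -/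
theorem fixS_eq_bot {p n r : ℕ} (hp : p.Prime) (hV : Nat.card V = p ^ n) [hrF : Fact r.Prime]
    (hrp : ¬ r ∣ p) (hprim : ∀ m, r ∣ p ^ m - 1 ↔ n ∣ m) (M : Subgroup H) (hM : IsPGroup r M)
    (hM1 : M ≠ ⊥) : fixS V M = ⊥ := by
  obtain ⟨k, hk, hkc⟩ := exists_card hp hV (fixS V M)
  have h1 := card_modEq M hM (⊤ : AddSubgroup V) (fun _ _ _ _ => AddSubgroup.mem_top _)
  rw [AddSubgroup.card_top, top_inf_eq, hV, hkc] at h1
  have h2 := dvd_sub_of_modEq hp hrF.out hrp hprim hk h1
  rcases Nat.eq_zero_or_pos k with h3 | h3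
  · rw [h3, pow_zero] at hkc
    exact AddSubgroup.card_eq_one.mp hkc
  · exfalso
    have h4 : n - k = 0 := by
      by_contra h5
      have := Nat.le_of_dvd (Nat.pos_of_ne_zero h5) h2
      omega
    have h5 : k = n := by omega
    have h6 : fixS V M = ⊤ := by
      apply AddSubgroup.eq_top_of_card_eq
      rw [hkc, hV, h5]
    apply hM1
    rw [eq_bot_iff]
    intro m hm
    rw [mem_bot]
    apply (‹FaithfulSMul H V›).eq_of_smul_eq_smul (α := V)
    intro v
    rw [one_smul]
    exact (h6 ▸ AddSubgroup.mem_top v : v ∈ fixS V M) m hm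

/-- A nontrivial `r`-group acts irreducibly, `r` a primitive prime divisor of `p ^ n - 1`. -/
theorem irred {p n r : ℕ} (hp : p.Prime) (hV : Nat.card V = p ^ n) [hrF : Fact r.Prime]
    (hrp : ¬ r ∣ p) (hprim : ∀ m, r ∣ p ^ m - 1 ↔ n ∣ m) (M : Subgroup H) (hM : IsPGroup r M)
    (hM1 : M ≠ ⊥) (W : AddSubgroup V) (hW : ∀ m ∈ M, ∀ w ∈ W, m • w ∈ W) : W = ⊥ ∨ W = ⊤ := by
  obtain ⟨k, hk, hkc⟩ := exists_card hp hV W
  have h1 := card_modEq M hM W hW
  rw [fixS_eq_bot hp hV hrp hprim M hM hM1, inf_bot_eq, AddSubgroup.card_bot, hkc] at h1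
  have h2 := dvd_sub_of_modEq hp hrF.out hrp hprim (Nat.zero_le k) (by rw [pow_zero]; exact h1)
  rw [Nat.sub_zero] at h2
  rcases Nat.eq_zero_or_pos k with h3 | h3
  · left
    rw [h3, pow_zero] at hkc
    exact AddSubgroup.card_eq_one.mp hkc
  · right
    have := Nat.le_of_dvd h3 h2
    have h5 : k = n := by omega
    apply AddSubgroup.eq_top_of_card_eq
    rw [hkc, hV, h5]

omit [FaithfulSMul H V] in
/-- A `q`-group has nonzero fixed vectors, `q` a primitive prime divisor of `p ^ (n - 1) - 1`. -/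
theorem fixS_ne_bot {p n q : ℕ} (hn : 3 ≤ n) (hp : p.Prime) (hV : Nat.card V = p ^ n)
    [hqF : Fact q.Prime]
    (hqp : ¬ q ∣ p) (hprim : ∀ m, q ∣ p ^ m - 1 ↔ (n - 1) ∣ m) (M : Subgroup H)
    (hM : IsPGroup q M) : fixS V M ≠ ⊥ := by
  intro hbot
  have h1 := card_modEq M hM (⊤ : AddSubgroup V) (fun _ _ _ _ => AddSubgroup.mem_top _)
  rw [AddSubgroup.card_top, top_inf_eq, hV, hbot, AddSubgroup.card_bot] at h1
  have h2 := dvd_sub_of_modEq hp hqF.out hqp hprim (Nat.zero_le n) (by rw [pow_zero]; exact h1)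
  rw [Nat.sub_zero] at h2
  obtain ⟨c, hc⟩ := h2
  have : c ≠ 0 := by rintro rfl; omega
  have h3 : c = 1 ∨ 2 ≤ c := by omega
  rcases h3 with rfl | h3
  · omega
  · have : (n - 1) * 2 ≤ (n - 1) * c := Nat.mul_le_mul_left _ h3
    omega

/-- The fixed vectors of a normal subgroup are invariant. -/
theorem smul_mem_fixS (M : Subgroup H) [hM : M.Normal] (h : H) {v : V} (hv : v ∈ fixS V M) :
    h • v ∈ fixS V M := by
  intro m hm
  have h1 := hv (h⁻¹ * m * h) (by simpa using hM.conj_mem m hm h⁻¹)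
  calc m • h • v = h • (h⁻¹ * m * h) • v := by
        rw [smul_smul, smul_smul]; congr 1; group
    _ = h • v := by rw [h1]

/-- A solvable group of order divisible by primitive prime divisors `q` of `p ^ (n - 1) - 1` and `r` of
`p ^ n - 1` only and with `q > n` does not exist. -/
theorem no_hall [Finite H] [Group.IsSolvable H] {p n q r : ℕ} (hn : 3 ≤ n) [hpF : Fact p.Prime]
    (hV : Nat.card V = p ^ n) [hqF : Fact q.Prime] [hrF : Fact r.Prime]
    (hqp : ¬ q ∣ p) (hqprim : ∀ m, q ∣ p ^ m - 1 ↔ (n - 1) ∣ m)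
    (hrp : ¬ r ∣ p) (hrprim : ∀ m, r ∣ p ^ m - 1 ↔ n ∣ m) (hqn : n < q)
    (hq : q ∣ Nat.card H) (hr : r ∣ Nat.card H)
    (hH : ∀ l : ℕ, l.Prime → l ∣ Nat.card H → l = q ∨ l = r) : False := by
  have hp := hpF.out
  obtain ⟨x, hx⟩ := exists_prime_orderOf_dvd_card' r hr
  obtain ⟨y, hy⟩ := exists_prime_orderOf_dvd_card' q hq
  have hx1 : x ≠ 1 := fun h => by
    rw [h, orderOf_one] at hx; exact hrF.out.one_lt.ne hx
  have hnt : Nontrivial H := ⟨x, 1, hx1⟩
  obtain ⟨l, M, hl, hMn, hM1, hMc, hMl⟩ := Solvable.HallAux.exists_normal_elementary (G := H)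
  have hlF : Fact l.Prime := ⟨hl⟩
  have hMp : IsPGroup l M := by
    intro m
    exact ⟨1, by rw [pow_one]; exact Subtype.ext (hMl m m.2)⟩
  have hldvd : l ∣ Nat.card H := by
    rcases hMp.card_eq_or_dvd with h | h
    · exact absurd (Subgroup.card_eq_one.mp h) hM1
    · exact h.trans (Subgroup.card_subgroup_dvd_card M)
  have hVnt : Nontrivial V := by
    rw [← Finite.one_lt_card_iff_nontrivial, hV]
    exact Nat.one_lt_pow (by omega) hp.one_lt
  have hxr : IsPGroup r (zpowers x) := IsPGroup.of_card (n := 1) (by rw [Nat.card_zpowers, hx, pow_one])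
  have hx1' : zpowers x ≠ ⊥ := by rwa [Ne, zpowers_eq_bot]
  rcases hH l hl hldvd with rfl | rfl
  · -- the normal subgroup is a `q`-group
    have h1 := fixS_ne_bot hn hp hV hqp hqprim M hMp
    rcases irred hp hV hrp hrprim (zpowers x) hxr hx1' (fixS V M)
      (fun m _ w hw => smul_mem_fixS M m hw) with h2 | h2
    · exact h1 h2
    · apply hM1
      rw [eq_bot_iff]
      intro m hm
      rw [mem_bot]
      apply (‹FaithfulSMul H V›).eq_of_smul_eq_smul (α := V)
      intro v
      rw [one_smul]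
      exact (h2 ▸ AddSubgroup.mem_top v : v ∈ fixS V M) m hm
  · -- the normal subgroup is an `r`-group
    open PermutationGroups.HalfTransField in
    have hEc := ringOf_comm (V := V) M (fun a ha b hb => congrArg Subtype.val (hMc.is_comm.comm (⟨a, ha⟩ : M) ⟨b, hb⟩))
    open PermutationGroups.HalfTransField in
    have hEn := ringOf_conj (V := V) M hMn
    have hEt : ∀ v w : V, v ≠ 0 →
        ∃ a ∈ PermutationGroups.HalfTransField.ringOf (V := V) M, a v = w := by
      intro v w hv
      let W : AddSubgroup V :=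
        { carrier := {w | ∃ a ∈ PermutationGroups.HalfTransField.ringOf (V := V) M, a v = w}
          zero_mem' := ⟨0, Subring.zero_mem _, rfl⟩
          add_mem' := by
            rintro _ _ ⟨a, ha, rfl⟩ ⟨b, hb, rfl⟩
            exact ⟨a + b, Subring.add_mem _ ha hb, rfl⟩
          neg_mem' := by
            rintro _ ⟨a, ha, rfl⟩
            exact ⟨-a, Subring.neg_mem _ ha, rfl⟩ }
      have hvW : v ∈ W := ⟨1, Subring.one_mem _, rfl⟩
      rcases irred hp hV hrp hrprim M hMp hM1 W (by
        rintro m hm _ ⟨a, ha, rfl⟩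
        exact ⟨PermutationGroups.HalfTransField.tau m * a,
          Subring.mul_mem _ (PermutationGroups.HalfTransField.tau_mem_ringOf M hm) ha, rfl⟩) with h2 | h2
      · exact absurd (by rw [h2] at hvW; exact hvW) hv
      · exact (h2 ▸ AddSubgroup.mem_top w : w ∈ W)
    obtain ⟨ε, hε⟩ := PermutationGroups.KantorCoord.coord (by omega) hV
      (PermutationGroups.HalfTransField.ringOf (V := V) M) hEc hEt hEn
    obtain ⟨a, φ, haφ⟩ := hε y
    -- the power of `y`
    have hpow : ∀ k : ℕ, ∃ b : (GaloisField p n)ˣ, ∀ v, ε (y ^ k • v) = b * (φ ^ k : GaloisField p n ≃+* GaloisField p n) (ε v) := by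
      intro k
      induction k with
      | zero => exact ⟨1, fun v => by simp⟩
      | succ k ih =>
        obtain ⟨b, hb⟩ := ih
        refine ⟨a * Units.map (φ : GaloisField p n →* GaloisField p n) b, fun v => ?_⟩
        rw [pow_succ', mul_smul, haφ, hb, map_mul, pow_succ', RingAut.mul_apply, Units.val_mul,
          mul_assoc]
        rfl
    have hyq : y ^ q = 1 := by rw [← hy, pow_orderOf_eq_one]
    have hφ : (φ : RingAut (GaloisField p n)) ^ q = 1 := by
      obtain ⟨b, hb⟩ := hpow q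
      have h1 := hb (ε.symm 1)
      rw [hyq, one_smul, AddEquiv.apply_symm_apply, map_one, mul_one] at h1
      apply RingEquiv.ext
      intro t
      have h2 := hb (ε.symm t)
      rw [hyq, one_smul, AddEquiv.apply_symm_apply, ← h1, one_mul] at h2
      exact h2.symm
    have hcardF : Nat.card (GaloisField p n) = p ^ n := GaloisField.card p n (by omega)
    have hφ1 : (φ : RingAut (GaloisField p n)) = 1 := by
      obtain ⟨d, hd, hdle⟩ := PermutationGroups.HalfTransLinear.card_ringAut_le p (GaloisField p n)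
      have hdn : d = n := by
        rw [hcardF] at hd
        exact (Nat.pow_right_injective hp.two_le hd).symm
      have : Finite (RingAut (GaloisField p n)) :=
        Finite.of_injective (fun f : RingAut (GaloisField p n) => (f : GaloisField p n → GaloisField p n))
          DFunLike.coe_injective
      have h1 : orderOf (φ : RingAut (GaloisField p n)) ≤ n := by
        exact (_root_.orderOf_le_card).trans (hdle.trans hdn.le)
      have h2 : orderOf (φ : RingAut (GaloisField p n)) ∣ q := orderOf_dvd_of_pow_eq_one hφ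
      rcases (Nat.dvd_prime hqF.out).mp h2 with h3 | h3
      · exact orderOf_eq_one_iff.mp h3
      · omega
    have hlin : ∀ k : ℕ, ∀ v, ε (y ^ k • v) = ((a ^ k : (GaloisField p n)ˣ) : GaloisField p n) * ε v := by
      intro k
      induction k with
      | zero => intro v; simp
      | succ k ih =>
        intro v
        rw [pow_succ', mul_smul, haφ, ih, hφ1]
        change (a : GaloisField p n) * (((a ^ k : (GaloisField p n)ˣ) : GaloisField p n) * ε v) = _
        rw [pow_succ', Units.val_mul, mul_assoc]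
    have haq : a ^ q = 1 := by
      have h1 := hlin q (ε.symm 1)
      rw [hyq, one_smul, AddEquiv.apply_symm_apply, mul_one] at h1
      exact Units.ext h1.symm
    have ha1 : a ≠ 1 := by
      intro ha
      have hy1 : y = 1 := by
        apply (‹FaithfulSMul H V›).eq_of_smul_eq_smul (α := V)
        intro v
        apply ε.injective
        have h1 := hlin 1 v
        rw [pow_one, pow_one, ha, Units.val_one, one_mul] at h1
        rw [h1, one_smul]
      rw [hy1, orderOf_one] at hy
      exact hqF.out.one_lt.ne hy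
    have hao : orderOf a = q := orderOf_eq_prime haq ha1
    have hdvd : q ∣ p ^ n - 1 := by
      rw [← hao, ← hcardF, ← Nat.card_units]
      exact orderOf_dvd_natCard a
    rw [hqprim] at hdvd
    obtain ⟨c, hc⟩ := hdvd
    have : c ≠ 0 := by rintro rfl; omega
    have h3 : c = 1 ∨ 2 ≤ c := by omega
    rcases h3 with rfl | h3
    · omega
    · have : (n - 1) * 2 ≤ (n - 1) * c := Nat.mul_le_mul_left _ h3
      omega

/-- No solvable group satisfies the divisibility conditions coming from transitivity on the subgroups of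
order `p` and `p ^ 2` of `V`, if `n ≥ 4` is even and `p` odd. -/
theorem no_even [Finite H] [Group.IsSolvable H] {p n : ℕ} (hn : 3 ≤ n) (hev : Even n)
    [hpF : Fact p.Prime] (hp2 : p ≠ 2) (hV : Nat.card V = p ^ n)
    (h1 : (p ^ n - 1) ∣ Nat.card H * (p - 1))
    (h2 : (p ^ n - 1) * (p ^ n - p) ∣ Nat.card H * ((p ^ 2 - 1) * (p ^ 2 - p))) : False := by
  have hp := hpF.out
  have hn4 : 4 ≤ n := by
    obtain ⟨k, hk⟩ := hev
    omega
  have hp3 : 3 ≤ p := by have := hp.two_le; omega
  obtain ⟨r, hr, hrprim, hrn, hrp⟩ := Lib.Zsigmondy.exists_primitive (a := p) (n := n) hp.two_le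
    (by omega) (by omega) (by omega)
  obtain ⟨q, hq, hqprim, hqn, hqp⟩ := Lib.Zsigmondy.exists_primitive (a := p) (n := n - 1) hp.two_le
    (by omega) (by omega) (by omega)
  have hrF : Fact r.Prime := ⟨hr⟩
  have hqF : Fact q.Prime := ⟨hq⟩
  have hqr : q ≠ r := by
    rintro rfl
    have h3 := (hrprim (n - 1)).mp ((hqprim (n - 1)).mpr dvd_rfl)
    have := Nat.le_of_dvd (by omega) h3
    omega
  have hrH : r ∣ Nat.card H := by
    have h3 : r ∣ Nat.card H * (p - 1) := ((hrprim n).mpr dvd_rfl).trans h1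
    rcases hr.dvd_mul.mp h3 with h4 | h4
    · exact h4
    · exfalso
      have h5 := (hrprim 1).mp (by rwa [pow_one])
      have := Nat.le_of_dvd (by omega) h5
      omega
  have hqH : q ∣ Nat.card H := by
    have h3 : q ∣ Nat.card H * ((p ^ 2 - 1) * (p ^ 2 - p)) := by
      refine dvd_trans ?_ h2
      apply dvd_mul_of_dvd_right
      have h4 : p ^ n - p = p * (p ^ (n - 1) - 1) := by
        rw [Nat.mul_sub, mul_one, ← pow_succ', show n - 1 + 1 = n by omega]
      rw [h4]
      exact dvd_mul_of_dvd_right ((hqprim (n - 1)).mpr dvd_rfl) _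
    rcases hq.dvd_mul.mp h3 with h4 | h4
    · exact h4
    · exfalso
      rcases hq.dvd_mul.mp h4 with h5 | h5
      · have h6 := (hqprim 2).mp h5
        have := Nat.le_of_dvd (by omega) h6
        omega
      · have h7 : p ^ 2 - p = p * (p - 1) := by rw [Nat.mul_sub, mul_one, pow_two]
        rw [h7] at h5
        rcases hq.dvd_mul.mp h5 with h6 | h6
        · exact hqp h6
        · have h8 := (hqprim 1).mp (by rwa [pow_one])
          have := Nat.le_of_dvd (by omega) h8
          omega
  have hqn' : n < q := by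
    have h3 := Nat.le_of_dvd (by have := hq.two_le; omega) hqn
    have h4 : q ≠ n := by
      rintro rfl
      rcases hq.eq_two_or_odd' with h5 | h5
      · omega
      · exact (Nat.not_even_iff_odd.mpr h5) hev
    omega
  -- the Hall subgroup
  set N := Nat.card H with hN
  have hN0 : N ≠ 0 := Nat.card_pos.ne'
  set a := q ^ N.factorization q with ha
  set b := r ^ N.factorization r with hb
  have hab : a.Coprime b := Nat.Coprime.pow _ _ ((Nat.coprime_primes hq hr).mpr hqr)
  have haN : a ∣ N := Nat.ordProj_dvd N q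
  have hbN : b ∣ N := Nat.ordProj_dvd N r
  obtain ⟨c, hc⟩ := hab.mul_dvd_of_dvd_of_dvd haN hbN
  have hcq : ¬ q ∣ c := by
    rintro ⟨d, hd⟩
    apply Nat.pow_succ_factorization_not_dvd hN0 hq
    refine ⟨b * d, ?_⟩
    rw [pow_succ, ← ha]
    calc N = a * b * c := hc
      _ = a * q * (b * d) := by rw [hd]; ring
  have hcr : ¬ r ∣ c := by
    rintro ⟨d, hd⟩
    apply Nat.pow_succ_factorization_not_dvd hN0 hr
    refine ⟨a * d, ?_⟩
    rw [pow_succ, ← hb]
    calc N = a * b * c := hc
      _ = b * r * (a * d) := by rw [hd]; ring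
  have hcop : (a * b).Coprime c := by
    apply Nat.Coprime.mul_left
    · exact Nat.Coprime.pow_left _ ((Nat.Prime.coprime_iff_not_dvd hq).mpr hcq)
    · exact Nat.Coprime.pow_left _ ((Nat.Prime.coprime_iff_not_dvd hr).mpr hcr)
  obtain ⟨K, hK⟩ := S0003.result (a * b) c hc hcop
  have hfq : N.factorization q ≠ 0 := by
    have := (hq.dvd_iff_one_le_factorization hN0).mp hqH
    omega
  have hfr : N.factorization r ≠ 0 := by
    have := (hr.dvd_iff_one_le_factorization hN0).mp hrH
    omega
  refine no_hall (H := K) hn hV hqp hqprim hrp hrprim hqn' ?_ ?_ ?_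
  · rw [hK]
    exact dvd_mul_of_dvd_left (dvd_pow_self q hfq) _
  · rw [hK]
    exact dvd_mul_of_dvd_right (dvd_pow_self r hfr) _
  · intro l hl hlK
    rw [hK] at hlK
    rcases hl.dvd_mul.mp hlK with h5 | h5
    · left
      exact (Nat.prime_dvd_prime_iff_eq hl hq).mp (hl.dvd_of_dvd_pow h5)
    · right
      exact (Nat.prime_dvd_prime_iff_eq hl hr).mp (hl.dvd_of_dvd_pow h5)

end Cfsg.Agent.H501.LinPrim
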