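import Cfsg.Agent.Solvable.Glauberman

/-!
# Normalizers of cyclic subgroups and quotients

* `exists_lift`: an element of a quotient lifts to an element whose order has no new prime divisors.
* `exists_mul_mem_normalizer`: Frattini argument for a cyclic subgroup of order prime to a normal subgroup.
-/

set_option autoImplicit false
open scoped Pointwise

namespace Cfsg.Agent.H501

open Subgroup

/-- An element of a quotient of a finite group lifts to an element whose order has only prime divisors
of the order of the given element. -/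
theorem exists_lift {G Q : Type*} [Group G] [Group Q] [Finite G] (f : G →* Q) (xb : Q) :
    ∀ (n : ℕ) (g : G), orderOf g = n → f g = xb →
      ∃ x : G, f x = xb ∧ ∀ r : ℕ, r.Prime → r ∣ orderOf x → r ∣ orderOf xb := by
  intro n
  induction n using Nat.strong_induction_on with
  | _ n ih =>
    intro g hg hgx
    by_cases h : ∀ r : ℕ, r.Prime → r ∣ orderOf g → r ∣ orderOf xb
    · exact ⟨g, hgx, h⟩
    · push Not at h
      obtain ⟨r, hr, hrg, hrx⟩ := h
      have hcop : (orderOf xb).Coprime r := (Nat.Coprime.symm ((Nat.Prime.coprime_iff_not_dvd hr).mpr hrx))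
      obtain ⟨m, hm⟩ := exists_pow_eq_self_of_coprime hcop.symm
      have hpos : 0 < orderOf g := orderOf_pos g
      have h1 : orderOf ((g ^ r) ^ m) ∣ orderOf g / r := by
        refine (orderOf_pow_dvd m).trans ?_
        rw [orderOf_pow_of_dvd hr.ne_zero hrg]
      have h2 : orderOf ((g ^ r) ^ m) < n := by
        rw [← hg]
        exact lt_of_le_of_lt (Nat.le_of_dvd (Nat.div_pos (Nat.le_of_dvd hpos hrg) hr.pos) h1)
          (Nat.div_lt_self hpos hr.one_lt)
      exact ih _ h2 _ rfl (by rw [map_pow, map_pow, hgx, hm])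

/-- Frattini argument: `y` normalises `⟨x⟩` modulo the normal subgroup `N`, whose order is prime to that
of `x`; then `n * y` normalises `⟨x⟩` for some `n ∈ N`. -/
theorem exists_mul_mem_normalizer {G : Type*} [Group G] [Finite G] (N : Subgroup G) [N.Normal] (x y : G)
    (hcop : (orderOf x).Coprime (Nat.card N))
    (hy : (y : G ⧸ N) ∈ normalizer ((zpowers (x : G ⧸ N) : Subgroup (G ⧸ N)) : Set (G ⧸ N))) :
    ∃ n ∈ N, n * y ∈ normalizer ((zpowers x : Subgroup G) : Set G) := by
  have hxN : zpowers x ≤ normalizer (N : Set G) := by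
    rw [Subgroup.normalizer_eq_top N]; exact le_top
  have hsol : Group.IsSolvable (zpowers x) :=
    Group.isSolvable_of_comm (fun a b => by
      obtain ⟨a, ha⟩ := a
      obtain ⟨b, hb⟩ := b
      obtain ⟨i, rfl⟩ := mem_zpowers_iff.mp ha
      obtain ⟨j, rfl⟩ := mem_zpowers_iff.mp hb
      ext
      simp [← zpow_add, add_comm])
  have hcard : (Nat.card (zpowers x)).Coprime (Nat.card N) := by
    rwa [Nat.card_zpowers]
  have hB : MulAut.conj y • zpowers x ≤ zpowers x ⊔ N := by
    intro z hz
    rw [Subgroup.mem_smul_pointwise_iff_exists] at hz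
    obtain ⟨s, hs, rfl⟩ := hz
    obtain ⟨k, rfl⟩ := mem_zpowers_iff.mp hs
    have h1 : (y : G ⧸ N) * (x : G ⧸ N) * (y : G ⧸ N)⁻¹ ∈ zpowers (x : G ⧸ N) :=
      (mem_normalizer_iff.mp hy _).mp (mem_zpowers _)
    obtain ⟨j, hj⟩ := mem_zpowers_iff.mp h1
    have h2 : (y * x * y⁻¹) ∈ zpowers x ⊔ N := by
      have h3 : ((x ^ j)⁻¹ * (y * x * y⁻¹) : G) ∈ N := by
        rw [← QuotientGroup.eq]
        simpa using hj
      have h4 : y * x * y⁻¹ = x ^ j * ((x ^ j)⁻¹ * (y * x * y⁻¹)) := by group
      rw [h4]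
      exact mul_mem (mem_sup_left (zpow_mem (mem_zpowers x) j)) (mem_sup_right h3)
    have h5 : MulAut.conj y • (x ^ k) = (y * x * y⁻¹) ^ k := by
      simp [MulAut.smul_def, conj_zpow]
    rw [h5]
    exact zpow_mem h2 k
  have hBc : Nat.card (MulAut.conj y • zpowers x : Subgroup G) = Nat.card (zpowers x) :=
    (Nat.card_congr (Subgroup.equivSMul (MulAut.conj y) (zpowers x)).toEquiv).symm
  obtain ⟨k, hk, hkx⟩ := Solvable.Glauberman.exists_conj_of_le_sup (zpowers x) N hxN hcard (Or.inl hsol)
    (MulAut.conj y • zpowers x) hB hBc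
  refine ⟨k⁻¹, inv_mem hk, ?_⟩
  have h6 : MulAut.conj (k⁻¹ * y) • zpowers x = zpowers x := by
    rw [map_mul, mul_smul, ← hkx, ← mul_smul, ← map_mul, inv_mul_cancel, map_one, one_smul]
  rw [mem_normalizer_iff]
  intro h
  constructor
  · intro hh
    rw [← h6]
    exact Subgroup.smul_mem_pointwise_smul h (MulAut.conj (k⁻¹ * y)) _ hh
  · intro hh
    have h7 : (k⁻¹ * y) * h * (k⁻¹ * y)⁻¹ = MulAut.conj (k⁻¹ * y) • h := rfl
    rw [h7] at hh
    have h8 : MulAut.conj (k⁻¹ * y) • h ∈ MulAut.conj (k⁻¹ * y) • zpowers x := by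
      rw [h6]; exact hh
    exact (Subgroup.smul_mem_pointwise_smul_iff).mp h8

end Cfsg.Agent.H501
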