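import Mathlib
import Cfsg.Agent.Lib.PSolvable
import Cfsg.Agent.H501.NormCent

/-!
# Groups in which no `p'`-element acts nontrivially on a cyclic `p`-subgroup

`PI p G`: every element of prime power order `r ^ s`, `r ≠ p`, normalising `⟨x⟩`, `x` a `p`-element, commutes
with `x`.

* `PI.of_injective`, `PI.quotient_pGroup`, `PI.quotient_coprime`: `PI` passes to subgroups and to quotients by normal
  `p`-subgroups and normal `p'`-subgroups.
* `PI.isPSolvable`: reduction of `PI p G → G` is `p`-solvable to simple groups.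
* `PI.not_cyclic`: a non-abelian simple group with `PI p` and cyclic Sylow `p`-subgroups has order prime to `p`.
-/

set_option autoImplicit false

namespace Cfsg.Agent.H501.PIrr

open Subgroup

universe u

/-- Every element of prime power order `r ^ s`, `r ≠ p`, normalising `⟨x⟩`, `x` a `p`-element, commutes
with `x`. -/
def PI (p : ℕ) (G : Type*) [Group G] : Prop :=
  ∀ (x y : G) (k r s : ℕ), x ^ p ^ k = 1 → r.Prime → r ≠ p → y ^ r ^ s = 1 → y * x * y⁻¹ ∈ zpowers x →
    y * x = x * y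

theorem PI.of_injective {p : ℕ} {G H : Type*} [Group G] [Group H] (f : H →* G) (hf : Function.Injective f)
    (h : PI p G) : PI p H := by
  intro x y k r s hx hr hrp hy hxy
  apply hf
  rw [map_mul, map_mul]
  refine h (f x) (f y) k r s (by rw [← map_pow, hx, map_one]) hr hrp (by rw [← map_pow, hy, map_one]) ?_
  obtain ⟨j, hj⟩ := mem_zpowers_iff.mp hxy
  rw [← map_inv, ← map_mul, ← map_mul, ← hj, map_zpow]
  exact zpow_mem (mem_zpowers _) j

theorem PI.congr {p : ℕ} {G H : Type*} [Group G] [Group H] (e : G ≃* H) (h : PI p G) : PI p H :=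
  h.of_injective e.symm.toMonoidHom e.symm.injective

/-- The `r`-part of an element. -/
theorem exists_part {G : Type*} [Group G] [Finite G] (g : G) {r : ℕ} (hr : r.Prime) (s : ℕ) :
    ∃ j a : ℕ, (g ^ j) ^ r ^ a = 1 ∧ j ≡ 1 [MOD r ^ s] := by
  obtain ⟨a, m, hm, hg⟩ := Nat.exists_eq_pow_mul_and_not_dvd (orderOf_pos g).ne' r hr.ne_one
  have hcop : Nat.Coprime m (r ^ s) := ((Nat.Prime.coprime_iff_not_dvd hr).mpr hm).symm.pow_right s
  obtain ⟨j, hj1, hj2⟩ := Nat.chineseRemainder hcop 0 1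
  refine ⟨j, a, ?_, hj2⟩
  obtain ⟨c, hc⟩ := (Nat.modEq_zero_iff_dvd).mp hj1
  rw [← pow_mul, hc, show m * c * r ^ a = (r ^ a * m) * c by ring, ← hg, pow_mul, pow_orderOf_eq_one, one_pow]

theorem pow_eq_self_of_modEq {G : Type*} [Group G] {g : G} {r s j : ℕ} (hg : g ^ r ^ s = 1)
    (hj : j ≡ 1 [MOD r ^ s]) : g ^ j = g := by
  have h1 : orderOf g ∣ r ^ s := orderOf_dvd_of_pow_eq_one hg
  conv_rhs => rw [← pow_one g]
  exact pow_eq_pow_iff_modEq.mpr (hj.of_dvd h1)

/-- A lift of an `r`-element to an `r`-element. -/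
theorem exists_lift_pow {G Q : Type*} [Group G] [Group Q] [Finite G] (f : G →* Q)
    (hf : Function.Surjective f) {y : Q} {r s : ℕ} (hr : r.Prime) (hy : y ^ r ^ s = 1) :
    ∃ (z : G) (a : ℕ), f z = y ∧ z ^ r ^ a = 1 := by
  obtain ⟨g, rfl⟩ := hf y
  obtain ⟨j, a, h1, h2⟩ := exists_part g hr s
  exact ⟨g ^ j, a, by rw [map_pow, pow_eq_self_of_modEq hy h2], h1⟩

/-- `PI` passes to quotients by normal subgroups of order prime to `p`. -/
theorem PI.quotient_coprime {p : ℕ} [Fact p.Prime] {G : Type*} [Group G] [Finite G] (h : PI p G)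
    (N : Subgroup G) [N.Normal] (hN : (Nat.card N).Coprime p) : PI p (G ⧸ N) := by
  intro x y k r s hx hr hrp hy hxy
  obtain ⟨x, a, rfl, hx'⟩ := exists_lift_pow (QuotientGroup.mk' N) (QuotientGroup.mk'_surjective N)
    (Fact.out : p.Prime) hx
  obtain ⟨y, b, rfl, hy'⟩ := exists_lift_pow (QuotientGroup.mk' N) (QuotientGroup.mk'_surjective N)
    hr hy
  have hcop : (orderOf x).Coprime (Nat.card N) := by
    have h1 : orderOf x ∣ p ^ a := orderOf_dvd_of_pow_eq_one hx'
    exact Nat.Coprime.coprime_dvd_left h1 (hN.symm.pow_left a)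
  have hnorm : ((y : G) : G ⧸ N) ∈ normalizer ((zpowers (x : G ⧸ N) : Subgroup (G ⧸ N)) : Set (G ⧸ N)) := by
    have h1 : (zpowers (x : G ⧸ N)).map (MulAut.conj (y : G ⧸ N)).toMonoidHom ≤ zpowers (x : G ⧸ N) := by
      rintro _ ⟨z, hz, rfl⟩
      obtain ⟨i, rfl⟩ := mem_zpowers_iff.mp hz
      change (y : G ⧸ N) * (x : G ⧸ N) ^ i * (y : G ⧸ N)⁻¹ ∈ _
      rw [← conj_zpow]
      exact zpow_mem hxy i
    rw [mem_normalizer_iff_map_conj_eq]
    refine Subgroup.eq_of_le_of_card_ge h1 ?_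
    exact (Nat.card_congr ((zpowers (x : G ⧸ N)).equivMapOfInjective _
      (MulAut.conj (y : G ⧸ N)).injective).toEquiv).le
  obtain ⟨n, hn, hny⟩ := exists_mul_mem_normalizer N x y hcop hnorm
  have hf : QuotientGroup.mk' N (n * y) = QuotientGroup.mk' N y := by
    rw [map_mul, show QuotientGroup.mk' N n = 1 from (QuotientGroup.eq_one_iff n).mpr hn, one_mul]
  obtain ⟨j, c, hj1, hj2⟩ := exists_part (n * y) hr s
  have hcomm := h x ((n * y) ^ j) a r c hx' hr hrp hj1
    ((mem_normalizer_iff.mp (pow_mem hny j) x).mp (mem_zpowers x))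
  have h3 := congrArg (QuotientGroup.mk' N) hcomm
  rw [map_mul, map_mul, map_pow, hf, pow_eq_self_of_modEq hy hj2] at h3
  exact h3

/-- Teichmüller lift: if `l ^ r ^ s = 1` modulo `p ^ k`, `k > 0`, some `l'` congruent to `l` modulo `p ^ k` has
`l' ^ r ^ s = 1` modulo `p ^ N`. -/
theorem exists_teich {p r : ℕ} (hp : p.Prime) (hr : r.Prime) (hrp : r ≠ p) {k : ℕ} (hk : k ≠ 0) (l s N : ℕ)
    (h : l ^ r ^ s ≡ 1 [MOD p ^ k]) :
    ∃ l' : ℕ, l' ≡ l [MOD p ^ k] ∧ l' ^ r ^ s ≡ 1 [MOD p ^ N] := by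
  have hcop : Nat.Coprime (p ^ N) (r ^ s) :=
    Nat.Coprime.pow _ _ ((Nat.coprime_primes hp hr).mpr hrp.symm)
  obtain ⟨e, he1, he2⟩ := Nat.chineseRemainder hcop 0 1
  obtain ⟨c, hc⟩ := (Nat.modEq_zero_iff_dvd).mp he1
  refine ⟨l ^ e, ?_, ?_⟩
  · -- `e = 1` modulo `r ^ s`
    rcases Nat.eq_zero_or_pos e with h0 | hpos
    · subst h0
      have h1 : r ^ s ∣ 1 := (Nat.modEq_zero_iff_dvd).mp he2.symm
      have h2 : r ^ s = 1 := Nat.dvd_one.mp h1
      rw [h2, pow_one] at h
      rw [pow_zero]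
      exact h.symm
    · obtain ⟨d, hd⟩ := (Nat.modEq_iff_dvd' hpos).mp he2.symm
      have h1 : e = 1 + r ^ s * d := by omega
      rw [h1, pow_add, pow_one, pow_mul]
      calc l * (l ^ r ^ s) ^ d ≡ l * 1 ^ d [MOD p ^ k] := (h.pow d).mul_left l
        _ = l := by rw [one_pow, mul_one]
  · rw [← pow_mul, mul_comm, pow_mul, hc, pow_mul]
    have h1 : (p : ℤ) ∣ ((l ^ r ^ s : ℕ) : ℤ) - 1 := by
      have h2 := (Nat.modEq_iff_dvd.mp h.symm)
      have h3 : (p : ℤ) ∣ ((p ^ k : ℕ) : ℤ) := by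
        exact_mod_cast dvd_pow_self p hk
      exact h3.trans (by simpa using h2)
    have h2 := dvd_sub_pow_of_dvd_sub h1 N
    have h3 : (l ^ r ^ s) ^ p ^ N ≡ 1 [MOD p ^ N] := by
      apply Nat.ModEq.symm
      rw [Nat.modEq_iff_dvd]
      have h4 : ((p ^ N : ℕ) : ℤ) ∣ (p : ℤ) ^ (N + 1) := by
        push_cast
        exact pow_dvd_pow _ (Nat.le_succ N)
      refine h4.trans ?_
      push_cast at h2 ⊢
      simpa using h2
    calc ((l ^ r ^ s) ^ p ^ N) ^ c ≡ 1 ^ c [MOD p ^ N] := h3.pow c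
      _ = 1 := one_pow c

/-- `PI` passes to quotients by normal `p`-subgroups. -/
theorem PI.quotient_pGroup {p : ℕ} [Fact p.Prime] {G : Type*} [Group G] [Finite G] (h : PI p G)
    (N : Subgroup G) [N.Normal] (hN : IsPGroup p N) : PI p (G ⧸ N) := by
  intro x y k r s hx hr hrp hy hxy
  obtain ⟨x, a, rfl, hx'⟩ := exists_lift_pow (QuotientGroup.mk' N) (QuotientGroup.mk'_surjective N)
    (Fact.out : p.Prime) hx
  obtain ⟨y, b, rfl, hy'⟩ := exists_lift_pow (QuotientGroup.mk' N) (QuotientGroup.mk'_surjective N)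
    hr hy
  by_cases hx1 : QuotientGroup.mk' N x = 1
  · rw [hx1]; simp
  -- the order of the image of `x`
  obtain ⟨c, hc, hcx⟩ := (Nat.dvd_prime_pow (Fact.out : p.Prime)).mp (orderOf_dvd_of_pow_eq_one hx)
  have hc0 : c ≠ 0 := by
    rintro rfl
    rw [pow_zero, orderOf_eq_one_iff] at hcx
    exact hx1 hcx
  -- the exponent
  obtain ⟨l, hl⟩ : ∃ l : ℕ, QuotientGroup.mk' N y * QuotientGroup.mk' N x * (QuotientGroup.mk' N y)⁻¹ =
      (QuotientGroup.mk' N x) ^ l := by
    obtain ⟨l, hl⟩ := (mem_powers_iff_mem_zpowers.mpr hxy)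
    exact ⟨l, hl.symm⟩
  have hlpow : ∀ i : ℕ, (QuotientGroup.mk' N y) ^ i * QuotientGroup.mk' N x * ((QuotientGroup.mk' N y) ^ i)⁻¹ =
      (QuotientGroup.mk' N x) ^ (l ^ i) := by
    intro i
    induction i with
    | zero => simp
    | succ i ih =>
      calc (QuotientGroup.mk' N y) ^ (i + 1) * QuotientGroup.mk' N x * ((QuotientGroup.mk' N y) ^ (i + 1))⁻¹
          = QuotientGroup.mk' N y * ((QuotientGroup.mk' N y) ^ i * QuotientGroup.mk' N x *
            ((QuotientGroup.mk' N y) ^ i)⁻¹) * (QuotientGroup.mk' N y)⁻¹ := by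
              rw [pow_succ']; group
        _ = (QuotientGroup.mk' N x) ^ (l ^ (i + 1)) := by
              rw [ih, ← conj_pow, hl, ← pow_mul, pow_succ']
  have hlb : l ^ r ^ b ≡ 1 [MOD p ^ c] := by
    have h1 := hlpow (r ^ b)
    rw [← map_pow, hy', map_one, one_mul, inv_one, mul_one] at h1
    rw [← hcx]
    apply (pow_eq_pow_iff_modEq (x := QuotientGroup.mk' N x)).mp
    rw [pow_one, ← h1]
  -- the preimage of `⟨x⟩`
  let A : Subgroup G := (zpowers (QuotientGroup.mk' N x)).comap (QuotientGroup.mk' N)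
  have hA : IsPGroup p A := by
    apply IsPGroup.comap_of_ker_isPGroup
    · rw [IsPGroup.iff_card]
      exact ⟨c, by rw [Nat.card_zpowers, hcx]⟩
    · rw [QuotientGroup.ker_mk']; exact hN
  obtain ⟨M, hM⟩ := IsPGroup.iff_card.mp hA
  have hAM : ∀ z ∈ A, z ^ p ^ M = 1 := by
    intro z hz
    have h1 : (⟨z, hz⟩ : A) ^ Nat.card A = 1 := pow_card_eq_one'
    rw [hM] at h1
    exact congrArg Subtype.val h1
  obtain ⟨l', hl'1, hl'2⟩ := exists_teich (Fact.out : p.Prime) hr hrp hc0 l b M hlb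
  -- the permutation of the coset `x N`
  let X : Type _ := {z : G // QuotientGroup.mk' N z = QuotientGroup.mk' N x}
  have hXA : ∀ z : X, z.1 ∈ A := fun z => by
    change QuotientGroup.mk' N z.1 ∈ zpowers (QuotientGroup.mk' N x)
    rw [z.2]; exact mem_zpowers _
  have hyinv : (QuotientGroup.mk' N y)⁻¹ * (QuotientGroup.mk' N x) ^ l * QuotientGroup.mk' N y = QuotientGroup.mk' N x := by
    rw [← hl]; group
  have hxl' : (QuotientGroup.mk' N x) ^ l' = (QuotientGroup.mk' N x) ^ l := by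
    rw [pow_eq_pow_iff_modEq, hcx]; exact hl'1
  let φ : X → X := fun z => ⟨y⁻¹ * z.1 ^ l' * y, by
    rw [map_mul, map_mul, map_pow, z.2, map_inv, hxl', hyinv]⟩
  have hφ : ∀ (i : ℕ) (z : X), ((φ^[i] z : X) : G) = (y ^ i)⁻¹ * z.1 ^ (l' ^ i) * y ^ i := by
    intro i
    induction i with
    | zero => intro z; simp
    | succ i ih =>
      intro z
      rw [Function.iterate_succ_apply', show ((φ (φ^[i] z) : X) : G) = y⁻¹ * ((φ^[i] z : X) : G) ^ l' * y from rfl,
        ih z]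
      have h1 : ((y ^ i)⁻¹ * z.1 ^ (l' ^ i) * y ^ i) ^ l' = (y ^ i)⁻¹ * (z.1 ^ (l' ^ (i + 1))) * y ^ i := by
        rw [pow_succ, pow_mul]
        have := conj_pow (i := l') (a := (y ^ i)⁻¹) (b := z.1 ^ l' ^ i)
        rw [inv_inv] at this
        exact this
      rw [h1, pow_succ]
      group
  have hφb : φ^[r ^ b] = id := by
    funext z
    apply Subtype.ext
    rw [hφ, hy', inv_one, one_mul, mul_one, id]
    have h1 : orderOf z.1 ∣ p ^ M := orderOf_dvd_of_pow_eq_one (hAM _ (hXA z))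
    conv_rhs => rw [← pow_one z.1]
    exact pow_eq_pow_iff_modEq.mpr (hl'2.of_dvd h1)
  -- a fixed point
  have hcardX : Nat.card X = Nat.card N := by
    refine Nat.card_congr
      { toFun := fun z => ⟨x⁻¹ * z.1, ?_⟩
        invFun := fun n => ⟨x * n.1, ?_⟩
        left_inv := fun z => Subtype.ext (by simp)
        right_inv := fun n => Subtype.ext (by simp) }
    · have h1 := z.2
      change (z.1 : G ⧸ N) = (x : G ⧸ N) at h1
      exact QuotientGroup.eq.mp h1.symm
    · rw [map_mul, show QuotientGroup.mk' N n.1 = 1 from (QuotientGroup.eq_one_iff n.1).mpr n.2, mul_one]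
  obtain ⟨z, hz⟩ : ∃ z : X, φ z = z := by
    by_contra hcon
    push Not at hcon
    have hrf : Fact r.Prime := ⟨hr⟩
    have : Fintype X := Fintype.ofFinite X
    have hb : ∀ z, Function.IsPeriodicPt φ (r ^ b) z := fun z => by
      change φ^[r ^ b] z = z
      rw [hφb]; rfl
    -- the group generated by `φ`
    let e : Equiv.Perm X := ⟨φ, φ^[r ^ b - 1], fun z => by
        rw [← Function.iterate_succ_apply, Nat.succ_eq_add_one, Nat.sub_add_cancel (Nat.pow_pos hr.pos), hφb]; rfl,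
      fun z => by
        rw [← Function.iterate_succ_apply' φ, Nat.succ_eq_add_one, Nat.sub_add_cancel (Nat.pow_pos hr.pos), hφb]; rfl⟩
    have he : e ^ r ^ b = 1 := by
      ext z
      have h1 : ∀ i : ℕ, ((e ^ i) z) = φ^[i] z := by
        intro i
        induction i with
        | zero => rfl
        | succ i ih => rw [pow_succ', Equiv.Perm.mul_apply, ih, Function.iterate_succ_apply']; rfl
      rw [h1, hφb]; rfl
    have hE : IsPGroup r (zpowers e) := by
      rw [IsPGroup.iff_card]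
      obtain ⟨i, -, hi⟩ := (Nat.dvd_prime_pow hr).mp (orderOf_dvd_of_pow_eq_one he)
      exact ⟨i, by rw [Nat.card_zpowers, hi]⟩
    have hmod := hE.card_modEq_card_fixedPoints X
    have hfix : Nat.card (MulAction.fixedPoints (zpowers e) X) = 0 := by
      rw [Finite.card_eq_zero_iff]
      refine ⟨fun ⟨z, hz⟩ => hcon z ?_⟩
      exact hz ⟨e, mem_zpowers e⟩
    rw [hfix, hcardX] at hmod
    obtain ⟨i, hi⟩ := IsPGroup.iff_card.mp hN
    rw [hi] at hmod
    have h2 : r ∣ p ^ i := (Nat.modEq_zero_iff_dvd).mp hmod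
    exact hrp ((Nat.prime_dvd_prime_iff_eq hr (Fact.out : p.Prime)).mp (hr.dvd_of_dvd_pow h2))
  have hz1 : y * z.1 * y⁻¹ = z.1 ^ l' := by
    have h1 : y⁻¹ * z.1 ^ l' * y = z.1 := congrArg Subtype.val hz
    nth_rewrite 1 [← h1]
    group
  have hcomm := h z.1 y M r b (hAM _ (hXA z)) hr hrp hy' (by rw [hz1]; exact pow_mem (mem_zpowers _) l')
  have h3 := congrArg (QuotientGroup.mk' N) hcomm
  rw [map_mul, map_mul, z.2] at h3
  exact h3

/-- `PI` for elements `y` of order prime to `p`. -/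
theorem PI.comm {p : ℕ} {G : Type*} [Group G] [Finite G] (h : PI p G) {x : G} {k : ℕ}
    (hx : x ^ p ^ k = 1) : ∀ (n : ℕ) (y : G), orderOf y = n → ¬ p ∣ orderOf y → y * x * y⁻¹ ∈ zpowers x →
      y * x = x * y := by
  intro n
  induction n using Nat.strong_induction_on with
  | _ n ih =>
    intro y hn hy hxy
    by_cases h1 : orderOf y = 1
    · rw [orderOf_eq_one_iff] at h1; simp [h1]
    obtain ⟨r, hr, hrn⟩ := Nat.exists_prime_and_dvd h1
    have hrp : r ≠ p := fun h2 => hy (h2 ▸ hrn)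
    obtain ⟨a, m, hm, hg⟩ := Nat.exists_eq_pow_mul_and_not_dvd (orderOf_pos y).ne' r hr.ne_one
    have hconj : ∀ i : ℕ, y ^ i * x * (y ^ i)⁻¹ ∈ zpowers x := by
      intro i
      induction i with
      | zero => simp
      | succ i ih2 =>
        obtain ⟨j, hj⟩ := mem_zpowers_iff.mp ih2
        have : y ^ (i + 1) * x * (y ^ (i + 1))⁻¹ = (y * x * y⁻¹) ^ j := by
          rw [conj_zpow, hj, pow_succ']; group
        rw [this]
        exact zpow_mem hxy j
    have ha : a ≠ 0 := by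
      rintro rfl
      rw [pow_zero, one_mul] at hg
      exact hm (hg ▸ hrn)
    -- the `r`-part
    have h2 : (y ^ m) * x = x * y ^ m :=
      h x (y ^ m) k r a hx hr hrp (by rw [← pow_mul, mul_comm, ← hg, pow_orderOf_eq_one]) (hconj m)
    -- the other part
    have hm0 : m ≠ 0 := by
      rintro rfl
      exact (orderOf_pos y).ne' (by rw [hg, mul_zero])
    have hord : orderOf (y ^ r ^ a) = m := by
      rw [orderOf_pow_of_dvd (Nat.pow_pos hr.pos).ne' (by rw [hg]; exact dvd_mul_right _ _), hg,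
        Nat.mul_div_cancel_left _ (Nat.pow_pos hr.pos)]
    have h3 : (y ^ r ^ a) * x = x * y ^ r ^ a := by
      refine ih m ?_ (y ^ r ^ a) hord ?_ (hconj _)
      · rw [← hn, hg]
        exact lt_mul_of_one_lt_left (Nat.pos_of_ne_zero hm0) (Nat.one_lt_pow ha hr.one_lt)
      · rw [hord]
        intro h4
        exact hy (hg ▸ dvd_mul_of_dvd_right h4 _)
    have hcop : Nat.Coprime m (r ^ a) := ((Nat.Prime.coprime_iff_not_dvd hr).mpr hm).symm.pow_right a
    have h4 : ∀ i : ℕ, y ^ i ∈ centralizer ({x} : Set G) ↔ y ^ i * x = x * y ^ i := by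
      intro i
      rw [mem_centralizer_singleton_iff]
    have h5 : y ^ (Nat.gcd m (r ^ a)) ∈ centralizer ({x} : Set G) := by
      have h6 : (y : G) ^ ((Nat.gcd m (r ^ a) : ℕ) : ℤ) ∈ centralizer ({x} : Set G) := by
        rw [Nat.gcd_eq_gcd_ab, zpow_add, zpow_mul, zpow_mul, zpow_natCast, zpow_natCast]
        exact mul_mem (zpow_mem ((h4 m).mpr h2) _) (zpow_mem ((h4 _).mpr h3) _)
      rwa [zpow_natCast] at h6
    rw [hcop, pow_one, mem_centralizer_singleton_iff] at h5
    exact h5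

end Cfsg.Agent.H501.PIrr
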