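import Mathlib
import Cfsg.Agent.H501.PIrr
import Cfsg.Agent.H722.RealP
import Cfsg.Agent.PLocal.PSolvable

/-!
# Reduction of the theorem on `p`-irrational groups to simple groups

* `PI.isPSolvable`: groups with `PI p` are `p`-solvable if this is so for simple groups (whose proper subgroups
  may be assumed to be `p`-solvable).
* `PI.not_dvd_of_cyclic`: non-abelian simple groups with `PI p` and cyclic Sylow `p`-subgroups have order prime
  to `p`.
* `PI.not_hasReal`, `not_pi_psl`: no real elements of order `p`; `PSL₂(F)`, `F` of characteristic `p ≥ 5`, does not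
  satisfy `PI p`.
* `pi_of_irr`: the hypothesis of the theorem implies `PI p`.
-/

set_option autoImplicit false

namespace Cfsg.Agent.H501.PIrr

open Subgroup

universe u

/-- The reduction to simple groups. -/
theorem PI.isPSolvable {p : ℕ} [Fact p.Prime]
    (hS : ∀ (S : Type u) [Group S] [Finite S] [IsSimpleGroup S], (∃ a b : S, a * b ≠ b * a) → PI p S →
      (∀ H : Subgroup S, H ≠ ⊤ → Cfsg.IsPSolvable p H) → ¬ p ∣ Nat.card S) :
    ∀ (n : ℕ) (G : Type u) [Group G] [Finite G], Nat.card G = n → PI p G → Cfsg.IsPSolvable p G := by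
  intro n
  induction n using Nat.strong_induction_on with
  | _ n ih =>
    intro G _ _ hn hG
    rcases subsingleton_or_nontrivial G with hs | hnt
    · refine Cfsg.Agent.PLocal.PSolvable.isPSolvable_of_coprime ?_
      rw [Nat.card_of_subsingleton (1 : G)]
      exact Nat.coprime_one_left p
    have hsub : ∀ H : Subgroup G, H ≠ ⊤ → Cfsg.IsPSolvable p H := by
      intro H hH
      refine ih (Nat.card H) ?_ H rfl (hG.of_injective H.subtype H.subtype_injective)
      rw [← hn]
      exact lt_of_le_of_ne (Subgroup.card_le_card_group H) (fun h => hH ((Subgroup.card_eq_iff_eq_top H).mp h))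
    by_cases hsimp : ∀ N : Subgroup G, N.Normal → N = ⊥ ∨ N = ⊤
    · have : IsSimpleGroup G := { eq_bot_or_eq_top_of_normal := hsimp }
      by_cases hc : ∃ a b : G, a * b ≠ b * a
      · refine Cfsg.Agent.PLocal.PSolvable.isPSolvable_of_coprime ?_
        exact ((Nat.Prime.coprime_iff_not_dvd (Fact.out : p.Prime)).mpr (hS G hc hG hsub)).symm
      · push Not at hc
        have : Group.IsSolvable G := Group.isSolvable_of_comm hc
        exact Cfsg.Agent.Lib.PSolvable.IsPSolvable_of_solvable p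
    · push Not at hsimp
      obtain ⟨N, hN, hNb, hNt⟩ := hsimp
      have : Nontrivial N := (Subgroup.nontrivial_iff_ne_bot N).mpr hNb
      obtain ⟨K, hKc, hKne, hKp⟩ : ∃ K : Subgroup N, K.Characteristic ∧ K ≠ ⊥ ∧
          (IsPGroup p K ∨ (Nat.card K).Coprime p) := by
        rcases Cfsg.Agent.Lib.PSolvable.exists_core_ne_bot p (hsub N hNt) with h | h
        · exact ⟨_, Cfsg.Agent.Lib.PSolvable.pCore_characteristic p, h, Or.inl
            (Cfsg.Agent.Lib.HallHigman.pCore_isPGroup p)⟩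
        · exact ⟨_, Cfsg.Agent.Lib.PSolvable.pPrimeCore_characteristic p, h, Or.inr
            (Cfsg.Agent.Lib.HallHigman.pPrimeCore_coprime p)⟩
      let K' : Subgroup G := K.map N.subtype
      have hK'n : K'.Normal := inferInstance
      have hK'card : Nat.card K' = Nat.card K :=
        Nat.card_congr (K.equivMapOfInjective N.subtype N.subtype_injective).toEquiv.symm
      have hquot : PI p (G ⧸ K') := by
        rcases hKp with h | h
        · exact hG.quotient_pGroup K' (h.map _)
        · exact hG.quotient_coprime K' (by rwa [hK'card])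
      have hlt : Nat.card (G ⧸ K') < n := by
        have h1 := Subgroup.card_eq_card_quotient_mul_card_subgroup K'
        have h2 : 1 < Nat.card K' := by
          rw [hK'card]
          exact (Subgroup.one_lt_card_iff_ne_bot K).mpr hKne
        have h3 : 0 < Nat.card (G ⧸ K') := Nat.card_pos
        rw [← hn, h1]
        exact lt_mul_of_one_lt_right h3 h2
      refine Cfsg.Agent.Lib.PSolvable.IsPSolvable_of_quotient p K' ?_ (ih _ hlt (G ⧸ K') rfl hquot)
      rw [hK'card]
      rcases hKp with h | h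
      · exact Or.inl (IsPGroup.iff_card.mp h)
      · exact Or.inr h

/-- Burnside: cyclic Sylow subgroups. -/
theorem PI.normalizer_le {p : ℕ} [Fact p.Prime] {G : Type*} [Group G] [Finite G] (h : PI p G)
    (P : Sylow p G) (hP : IsCyclic P) :
    normalizer ((P : Subgroup G) : Set G) ≤ centralizer ((P : Subgroup G) : Set G) := by
  obtain ⟨⟨x, hxP⟩, hgen⟩ := hP.exists_generator
  obtain ⟨k, hk⟩ := IsPGroup.iff_card.mp P.isPGroup'
  have hx : x ^ p ^ k = 1 := by
    have h1 : (⟨x, hxP⟩ : P) ^ Nat.card P = 1 := pow_card_eq_one'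
    rw [show Nat.card P = p ^ k from hk] at h1
    exact congrArg Subtype.val h1
  have hPx : ∀ z ∈ P, z ∈ zpowers x := by
    intro z hz
    obtain ⟨i, hi⟩ := mem_zpowers_iff.mp (hgen ⟨z, hz⟩)
    exact mem_zpowers_iff.mpr ⟨i, congrArg Subtype.val hi⟩
  intro y hy
  have hconj : ∀ i : ℕ, y ^ i * x * (y ^ i)⁻¹ ∈ zpowers x := fun i =>
    hPx _ ((mem_normalizer_iff.mp (pow_mem hy i) x).mp hxP)
  obtain ⟨a, m, hm, hg⟩ := Nat.exists_eq_pow_mul_and_not_dvd (orderOf_pos y).ne' p
    (Fact.out : p.Prime).ne_one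
  have hcop : Nat.Coprime m (p ^ a) :=
    ((Nat.Prime.coprime_iff_not_dvd (Fact.out : p.Prime)).mpr hm).symm.pow_right a
  have h1 : y ^ p ^ a ∈ centralizer ({x} : Set G) := by
    rw [mem_centralizer_singleton_iff]
    refine h.comm hx _ (y ^ p ^ a) rfl ?_ (hconj _)
    rw [orderOf_pow_of_dvd (Nat.pow_pos (Fact.out : p.Prime).pos).ne' (by rw [hg]; exact dvd_mul_right _ _), hg,
      Nat.mul_div_cancel_left _ (Nat.pow_pos (Fact.out : p.Prime).pos)]
    exact hm
  have h2 : y ^ m ∈ centralizer ({x} : Set G) := by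
    have h3 : IsPGroup p (zpowers (y ^ m)) := by
      have h4 : (y ^ m) ^ p ^ a = 1 := by rw [← pow_mul, mul_comm, ← hg, pow_orderOf_eq_one]
      obtain ⟨i, -, hi⟩ := (Nat.dvd_prime_pow (Fact.out : p.Prime)).mp (orderOf_dvd_of_pow_eq_one h4)
      rw [IsPGroup.iff_card]
      exact ⟨i, by rw [Nat.card_zpowers, hi]⟩
    have h4 := h3.inf_normalizer_sylow P
    have h5 : y ^ m ∈ zpowers (y ^ m) ⊓ normalizer ((P : Subgroup G) : Set G) :=
      ⟨mem_zpowers _, pow_mem hy m⟩
    have h6 : y ^ m ∈ (P : Subgroup G) := by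
      have h7 : y ^ m ∈ zpowers (y ^ m) ⊓ (P : Subgroup G) := h4.le h5
      exact h7.2
    obtain ⟨i, hi⟩ := mem_zpowers_iff.mp (hPx _ h6)
    rw [mem_centralizer_singleton_iff, ← hi]
    exact ((Commute.refl x).zpow_left i).eq
  have h3 : y ∈ centralizer ({x} : Set G) := by
    have h6 : (y : G) ^ ((Nat.gcd m (p ^ a) : ℕ) : ℤ) ∈ centralizer ({x} : Set G) := by
      rw [Nat.gcd_eq_gcd_ab, zpow_add, zpow_mul, zpow_mul, zpow_natCast, zpow_natCast]
      exact mul_mem (zpow_mem h2 _) (zpow_mem h1 _)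
    rw [hcop] at h6
    simpa using h6
  rw [mem_centralizer_singleton_iff] at h3
  rw [mem_centralizer_iff]
  intro z hz
  obtain ⟨i, rfl⟩ := mem_zpowers_iff.mp (hPx z hz)
  exact (((show Commute x y from h3.symm)).zpow_left i).eq

/-- Non-abelian simple groups with `PI p` and cyclic Sylow `p`-subgroups. -/
theorem PI.not_dvd_of_cyclic {p : ℕ} [Fact p.Prime] {S : Type*} [Group S] [Finite S] [IsSimpleGroup S]
    (hna : ∃ a b : S, a * b ≠ b * a) (h : PI p S) (P : Sylow p S) (hP : IsCyclic P) :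
    ¬ p ∣ Nat.card S := by
  intro hd
  have hPN := h.normalizer_le P hP
  have hcomp := MonoidHom.ker_transferSylow_isComplement' P hPN
  rcases (IsSimpleGroup.eq_bot_or_eq_top_of_normal (MonoidHom.transferSylow P hPN).ker inferInstance) with h1 | h1
  · rw [h1] at hcomp
    have h2 : (P : Subgroup S) = ⊤ := by
      rw [← Subgroup.isComplement'_bot_left]; exact hcomp
    have h3 : IsCyclic S := by
      have h4 : Function.Surjective ((P : Subgroup S).subtype) := by
        intro s
        exact ⟨⟨s, by rw [h2]; trivial⟩, rfl⟩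
      exact isCyclic_of_surjective _ h4
    obtain ⟨a, b, hab⟩ := hna
    exact hab (h3.commGroup.mul_comm a b)
  · rw [h1] at hcomp
    have h2 : (P : Subgroup S) = ⊥ := by
      rw [← Subgroup.isComplement'_top_left]; exact hcomp
    exact P.ne_bot_of_dvd_card hd h2

/-- No real elements of order `p`. -/
theorem PI.not_hasReal {p : ℕ} (hp : p.Prime) (hp2 : p ≠ 2) {S : Type*} [Group S] (h : PI p S) :
    ¬ Cfsg.Agent.H722.RealP.HasReal p S := by
  rintro ⟨x, t, hx, ⟨k, hk⟩, htx⟩
  have h1 : t * x = x * t :=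
    h x t 1 2 k (by rw [pow_one, ← hx, pow_orderOf_eq_one]) Nat.prime_two hp2.symm
      (by rw [← hk, pow_orderOf_eq_one]) (by rw [htx]; exact inv_mem (mem_zpowers x))
  have h2 : x = x⁻¹ := by
    rw [← htx, h1]; group
  have h3 : x ^ 2 = 1 := by
    rw [pow_two]
    nth_rewrite 2 [h2]
    group
  have h4 := orderOf_dvd_of_pow_eq_one h3
  rw [hx] at h4
  exact hp2 ((Nat.prime_dvd_prime_iff_eq hp Nat.prime_two).mp h4)

/-- `PSL₂(F)` in characteristic `p ≥ 5`. -/
theorem not_pi_psl {p : ℕ} (hp : p.Prime) (h5 : 5 ≤ p) (F : Type*) [Field F] [Finite F] [CharP F p] :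
    ¬ PI p (Matrix.ProjectiveSpecialLinearGroup (Fin 2) F) := by
  intro h
  have : Fintype F := Fintype.ofFinite F
  have hF : Fact p.Prime := ⟨hp⟩
  have h2 : (2 : F) ≠ 0 := by
    intro h0
    have h1 : p ∣ 2 := (CharP.cast_eq_zero_iff F p 2).mp (by exact_mod_cast h0)
    exact absurd (Nat.le_of_dvd (by norm_num) h1) (by omega)
  have h3 : (3 : F) ≠ 0 := by
    intro h0
    have h1 : p ∣ 3 := (CharP.cast_eq_zero_iff F p 3).mp (by exact_mod_cast h0)
    exact absurd (Nat.le_of_dvd (by norm_num) h1) (by omega)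
  let X : Matrix.SpecialLinearGroup (Fin 2) F := ⟨!![1, 1; 0, 1], by simp [Matrix.det_fin_two]⟩
  let Y : Matrix.SpecialLinearGroup (Fin 2) F := ⟨!![2, 0; 0, 2⁻¹], by simp [Matrix.det_fin_two, h2]⟩
  have hX : (X : Matrix (Fin 2) (Fin 2) F) = !![1, 1; 0, 1] := rfl
  have hY : (Y : Matrix (Fin 2) (Fin 2) F) = !![2, 0; 0, 2⁻¹] := rfl
  have hXn : ∀ n : ℕ, ((X ^ n : Matrix.SpecialLinearGroup (Fin 2) F) : Matrix (Fin 2) (Fin 2) F) =
      !![1, (n : F); 0, 1] := by
    intro n
    induction n with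
    | zero =>
      rw [pow_zero, Matrix.SpecialLinearGroup.coe_one]
      ext i j; fin_cases i <;> fin_cases j <;> simp
    | succ n ih =>
      rw [pow_succ, Matrix.SpecialLinearGroup.coe_mul, ih, hX]
      ext i j; fin_cases i <;> fin_cases j <;> simp [add_comm]
  have hYn : ∀ n : ℕ, ((Y ^ n : Matrix.SpecialLinearGroup (Fin 2) F) : Matrix (Fin 2) (Fin 2) F) =
      !![(2 : F) ^ n, 0; 0, (2⁻¹ : F) ^ n] := by
    intro n
    induction n with
    | zero =>
      rw [pow_zero, Matrix.SpecialLinearGroup.coe_one]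
      ext i j; fin_cases i <;> fin_cases j <;> simp
    | succ n ih =>
      rw [pow_succ, Matrix.SpecialLinearGroup.coe_mul, ih, hY]
      ext i j; fin_cases i <;> fin_cases j <;> simp [pow_succ]
  have hXp : X ^ p = 1 := by
    apply Matrix.SpecialLinearGroup.ext
    intro i j
    rw [hXn, Matrix.SpecialLinearGroup.coe_one, CharP.cast_eq_zero]
    fin_cases i <;> fin_cases j <;> simp
  have hYq : Y ^ (Fintype.card F - 1) = 1 := by
    apply Matrix.SpecialLinearGroup.ext
    intro i j
    rw [hYn, Matrix.SpecialLinearGroup.coe_one, FiniteField.pow_card_sub_one_eq_one 2 h2,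
      FiniteField.pow_card_sub_one_eq_one _ (inv_ne_zero h2)]
    fin_cases i <;> fin_cases j <;> simp
  have hYX : Y * X * Y⁻¹ = X ^ 4 := by
    rw [mul_inv_eq_iff_eq_mul]
    apply Matrix.SpecialLinearGroup.ext
    intro i j
    rw [Matrix.SpecialLinearGroup.coe_mul, Matrix.SpecialLinearGroup.coe_mul, hXn, hX, hY]
    have h4 : (4 : F) * 2⁻¹ = 2 := by
      rw [show (4 : F) = 2 * 2 by norm_num, mul_assoc, mul_inv_cancel₀ h2, mul_one]
    fin_cases i <;> fin_cases j <;> simp [h4]
  have hord : ¬ p ∣ orderOf (QuotientGroup.mk Y : Matrix.ProjectiveSpecialLinearGroup (Fin 2) F) := by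
    intro hd
    have h1 : orderOf (QuotientGroup.mk Y : Matrix.ProjectiveSpecialLinearGroup (Fin 2) F) ∣ Fintype.card F - 1 := by
      apply orderOf_dvd_of_pow_eq_one
      rw [← QuotientGroup.mk_pow, hYq]; rfl
    obtain ⟨m, -, hm⟩ := FiniteField.card F p
    have h2 : p ∣ Fintype.card F - 1 := hd.trans h1
    have h4 : p ∣ Fintype.card F := by rw [hm]; exact dvd_pow_self p m.pos.ne'
    have h6 : p ∣ 1 := by
      have h7 := Nat.dvd_sub h4 h2
      rwa [Nat.sub_sub_self (Fintype.card_pos)] at h7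
    exact hp.one_lt.ne' (Nat.dvd_one.mp h6)
  have hcomm := h.comm (x := (QuotientGroup.mk X : Matrix.ProjectiveSpecialLinearGroup (Fin 2) F)) (k := 1)
    (by rw [pow_one, ← QuotientGroup.mk_pow, hXp]; rfl) _ (QuotientGroup.mk Y) rfl hord
    (by rw [← QuotientGroup.mk_mul, ← QuotientGroup.mk_inv, ← QuotientGroup.mk_mul, hYX, QuotientGroup.mk_pow]
        exact pow_mem (mem_zpowers _) 4)
  have h6 : (QuotientGroup.mk (X ^ 3) : Matrix.ProjectiveSpecialLinearGroup (Fin 2) F) = 1 := by
    have h7 : (QuotientGroup.mk (Y * X * Y⁻¹) : Matrix.ProjectiveSpecialLinearGroup (Fin 2) F) = QuotientGroup.mk X := by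
      rw [QuotientGroup.mk_mul, QuotientGroup.mk_mul, hcomm, QuotientGroup.mk_inv]
      group
    rw [hYX] at h7
    have h8 : X ^ 3 = X ^ 4 * X⁻¹ := by group
    rw [h8, QuotientGroup.mk_mul, h7, QuotientGroup.mk_inv, mul_inv_cancel]
  rw [QuotientGroup.eq_one_iff] at h6
  let Z : Matrix.SpecialLinearGroup (Fin 2) F := ⟨!![1, 0; 1, 1], by simp [Matrix.det_fin_two]⟩
  have hZ : (Z : Matrix (Fin 2) (Fin 2) F) = !![1, 0; 1, 1] := rfl
  have h7 := Subgroup.mem_center_iff.mp h6 Z
  have h8 := congrArg (fun M : Matrix.SpecialLinearGroup (Fin 2) F => (M : Matrix (Fin 2) (Fin 2) F) 0 0) h7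
  simp only [Matrix.SpecialLinearGroup.coe_mul, hXn, hZ] at h8
  simp at h8
  exact h3 h8

/-- The hypothesis of the theorem implies `PI p`. -/
theorem pi_of_irr {p : ℕ} (hp : p.Prime) {G : Type*} [Group G] [Finite G]
    (hirr : ∀ x : G, (∀ r : ℕ, r.Prime → r ∣ orderOf x → r = p) →
      Subgroup.normalizer ((Subgroup.zpowers x : Subgroup G) : Set G) ≤ Subgroup.centralizer {x}) : PI p G := by
  intro x y k r s hx hr hrp hy hxy
  have h1 : ∀ r : ℕ, r.Prime → r ∣ orderOf x → r = p := by
    intro q hq hqx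
    exact (Nat.prime_dvd_prime_iff_eq hq hp).mp (hq.dvd_of_dvd_pow (hqx.trans (orderOf_dvd_of_pow_eq_one hx)))
  have h2 : (zpowers x).map (MulAut.conj y).toMonoidHom ≤ zpowers x := by
    rintro _ ⟨z, hz, rfl⟩
    obtain ⟨i, rfl⟩ := mem_zpowers_iff.mp hz
    change y * x ^ i * y⁻¹ ∈ _
    rw [← conj_zpow]
    exact zpow_mem hxy i
  have h3 : y ∈ normalizer ((zpowers x : Subgroup G) : Set G) := by
    rw [mem_normalizer_iff_map_conj_eq]
    refine Subgroup.eq_of_le_of_card_ge h2 ?_
    exact (Nat.card_congr ((zpowers x).equivMapOfInjective _ (MulAut.conj y).injective).toEquiv).le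
  have h4 := hirr x h1 h3
  rw [mem_centralizer_singleton_iff] at h4
  exact h4

end Cfsg.Agent.H501.PIrr
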