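import Mathlib
import Cfsg.Agent.H501.PIrr
import Cfsg.Agent.Lib.Involves

/-!
# Elements of order `p` conjugate to a proper power

`PV p G`: some `x` with `x ^ p = 1` is conjugate to a power `x ^ j ≠ x`.

* `PV.map`: passes through injective homomorphisms; `PV.of_hom`: through homomorphisms with kernel of order prime
  to `p` (or not containing elements of order `p`); `PV.quotient_center`;
* `PV.not_pi`: `PV p G` contradicts `PI p G`;
* `PV.to_commutator`: in a perfect group mapped to `X`, the elements lie in the commutator subgroup.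
-/

set_option autoImplicit false

namespace Cfsg.Agent.H501.PIrr

open Subgroup

/-- Some element of order `p` is conjugate to a power different from it. -/
def PV (p : ℕ) (G : Type*) [Group G] : Prop :=
  ∃ (x y : G) (j : ℕ), x ^ p = 1 ∧ y * x * y⁻¹ = x ^ j ∧ x ^ j ≠ x

theorem PV.map {p : ℕ} {G H : Type*} [Group G] [Group H] (f : G →* H) (hf : Function.Injective f)
    (h : PV p G) : PV p H := by
  obtain ⟨x, y, j, h1, h2, h3⟩ := h
  refine ⟨f x, f y, j, by rw [← map_pow, h1, map_one], by rw [← map_inv, ← map_mul, ← map_mul, h2, map_pow], ?_⟩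
  rw [← map_pow]
  exact fun h => h3 (hf h)

theorem PV.congr {p : ℕ} {G H : Type*} [Group G] [Group H] (e : G ≃* H) (h : PV p G) : PV p H :=
  h.map e.toMonoidHom e.injective

/-- Homomorphisms not killing the element. -/
theorem PV.of_hom {p : ℕ} (hp : p.Prime) {G H : Type*} [Group G] [Group H] (f : G →* H)
    (h : ∃ (x y : G) (j : ℕ), x ^ p = 1 ∧ y * x * y⁻¹ = x ^ j ∧ x ^ j ≠ x ∧ f x ≠ 1) : PV p H := by
  obtain ⟨x, y, j, h1, h2, h3, h4⟩ := h
  refine ⟨f x, f y, j, by rw [← map_pow, h1, map_one], by rw [← map_inv, ← map_mul, ← map_mul, h2, map_pow], ?_⟩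
  intro h5
  have hx : orderOf x = p := by
    rcases (Nat.dvd_prime hp).mp (orderOf_dvd_of_pow_eq_one h1) with h | h
    · rw [orderOf_eq_one_iff] at h
      exact absurd (by rw [h, map_one]) h4
    · exact h
  have hfx : orderOf (f x) = p := by
    rcases (Nat.dvd_prime hp).mp (orderOf_dvd_of_pow_eq_one (show f x ^ p = 1 by rw [← map_pow, h1, map_one])) with h | h
    · rw [orderOf_eq_one_iff] at h
      exact absurd h h4
    · exact h
  apply h3
  conv_rhs => rw [← pow_one x]
  rw [pow_eq_pow_iff_modEq, hx, ← hfx, ← pow_eq_pow_iff_modEq, pow_one]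
  exact h5

/-- Homomorphisms with kernel of order prime to `p`. -/
theorem PV.of_ker {p : ℕ} (hp : p.Prime) {G H : Type*} [Group G] [Group H] (f : G →* H)
    (hf : ∀ z ∈ f.ker, z ^ p = 1 → z = 1) (h : PV p G) : PV p H := by
  obtain ⟨x, y, j, h1, h2, h3⟩ := h
  refine PV.of_hom hp f ⟨x, y, j, h1, h2, h3, fun h4 => h3 ?_⟩
  rw [hf x h4 h1, one_pow]

/-- Homomorphisms with central kernel. -/
theorem PV.of_central {p : ℕ} (hp : p.Prime) {G H : Type*} [Group G] [Group H] (f : G →* H)
    (hf : f.ker ≤ center G) (h : PV p G) : PV p H := by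
  obtain ⟨x, y, j, h1, h2, h3⟩ := h
  refine PV.of_hom hp f ⟨x, y, j, h1, h2, h3, fun h4 => h3 ?_⟩
  have h5 := Subgroup.mem_center_iff.mp (hf h4) y
  rw [← h2, h5]; group

/-- The quotient by the centre. -/
theorem PV.quotient_center {p : ℕ} (hp : p.Prime) {G : Type*} [Group G] (h : PV p G) :
    PV p (G ⧸ center G) :=
  h.of_central hp (QuotientGroup.mk' (center G)) (by rw [QuotientGroup.ker_mk'])

theorem pow_prime_pow_modEq {p : ℕ} (hp : p.Prime) (j a : ℕ) : j ^ p ^ a ≡ j [MOD p] := by
  have : Fact p.Prime := ⟨hp⟩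
  rw [← ZMod.natCast_eq_natCast_iff, Nat.cast_pow]
  induction a with
  | zero => rw [pow_zero, pow_one]
  | succ a ih => rw [pow_succ, pow_mul, ih, ZMod.pow_card]

/-- `PV` contradicts `PI`. -/
theorem PV.not_pi {p : ℕ} (hp : p.Prime) {G : Type*} [Group G] [Finite G] (h : PV p G) : ¬ PI p G := by
  obtain ⟨x, y, j, h1, h2, h3⟩ := h
  intro hPI
  obtain ⟨a, m, hm, hg⟩ := Nat.exists_eq_pow_mul_and_not_dvd (orderOf_pos y).ne' p hp.ne_one
  have hconj : ∀ i : ℕ, y ^ i * x * (y ^ i)⁻¹ = x ^ (j ^ i) := by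
    intro i
    induction i with
    | zero => simp
    | succ i ih =>
      calc y ^ (i + 1) * x * (y ^ (i + 1))⁻¹ = y * (y ^ i * x * (y ^ i)⁻¹) * y⁻¹ := by rw [pow_succ']; group
        _ = x ^ (j ^ (i + 1)) := by rw [ih, ← conj_pow, h2, ← pow_mul, pow_succ']
  have hxj : x ^ (j ^ p ^ a) = x ^ j := by
    rw [pow_eq_pow_iff_modEq]
    exact (pow_prime_pow_modEq hp j a).of_dvd (orderOf_dvd_of_pow_eq_one h1)
  have hcomm := hPI.comm (x := x) (k := 1) (by rw [pow_one, h1]) _ (y ^ p ^ a) rfl
    (by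
      rw [orderOf_pow_of_dvd (Nat.pow_pos hp.pos).ne' (by rw [hg]; exact dvd_mul_right _ _), hg,
        Nat.mul_div_cancel_left _ (Nat.pow_pos hp.pos)]
      exact hm)
    (by rw [hconj]; exact pow_mem (mem_zpowers x) _)
  apply h3
  rw [← hxj, ← hconj, hcomm]
  group

/-- Perfect groups map into the commutator subgroup. -/
theorem PV.to_commutator {p : ℕ} {L X : Type*} [Group L] [Group X] (f : L →* X) (hf : Function.Injective f)
    (hL : commutator L = ⊤) (h : PV p L) : PV p (commutator X) := by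
  have hmem : ∀ l : L, f l ∈ commutator X := by
    intro l
    have h1 : l ∈ commutator L := by rw [hL]; trivial
    have h2 : (commutator L).map f ≤ commutator X := by
      rw [commutator_def, commutator_def, Subgroup.map_commutator]
      exact Subgroup.commutator_mono le_top le_top
    exact h2 (Subgroup.mem_map_of_mem f h1)
  exact h.map (f.codRestrict (commutator X) hmem) (fun a b hab => hf (congrArg Subtype.val hab))

end Cfsg.Agent.H501.PIrr
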