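import Mathlib
import Cfsg.Prelude.Def_Classical
import Cfsg.Agent.H501.RealGen
import Cfsg.Agent.H469.RowAlt

/-!
# Table T(S, p), `S = A_n`

`p` odd, `n ≥ 5`: a real element of order `p` if `2 p ≤ n`, cyclic Sylow `p`-subgroups otherwise.
-/

set_option autoImplicit false

namespace Cfsg.Agent.H501.RowAlt

open Equiv Cfsg.Agent.H722.RealP Cfsg.Agent.H501.RealGen

/-- The symmetric group of degree `p` has a real element of order `p`. -/
theorem hasReal_perm {p : ℕ} [hp : Fact p.Prime] : HasReal p (Perm (ZMod p)) := by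
  have hpow : ∀ k : ℕ, ∀ a : ZMod p, ((Equiv.addRight (1 : ZMod p)) ^ k) a = a + k := by
    intro k
    induction k with
    | zero => intro a; simp
    | succ k ih =>
      intro a
      rw [pow_succ', Perm.mul_apply, ih, Equiv.coe_addRight]
      push_cast
      ring
  refine hasReal_of_conj (x := Equiv.addRight (1 : ZMod p)) hp.out ?_ ?_ ?_
  · ext1 a
    rw [hpow]
    simp
  · intro h
    have := DFunLike.congr_fun h (0 : ZMod p)
    simp at this
  · rw [isConj_iff]
    refine ⟨Equiv.neg (ZMod p), ?_⟩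
    ext1 a
    rw [Perm.mul_apply, Perm.mul_apply, Perm.inv_def, Perm.inv_def]
    simp [Equiv.addRight_symm]
    ring

/-- two copies of the symmetric group -/
def two {α β γ : Type*} (e : (α ⊕ α) ⊕ β ≃ γ) : Perm α →* Perm γ :=
  (e.permCongrHom.toMonoidHom.comp (Perm.sumCongrHom (α ⊕ α) β)).comp
    (MonoidHom.prod ((Perm.sumCongrHom α α).comp (MonoidHom.prod (MonoidHom.id _) (MonoidHom.id _))) 1)

theorem two_injective {α β γ : Type*} (e : (α ⊕ α) ⊕ β ≃ γ) : Function.Injective (two e) := by
  intro g h hgh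
  have h1 : Perm.sumCongr (Perm.sumCongr g g) (1 : Perm β) = Perm.sumCongr (Perm.sumCongr h h) 1 :=
    e.permCongr.injective hgh
  ext a
  have h2 := DFunLike.congr_fun h1 (Sum.inl (Sum.inl a))
  simpa using h2

theorem sign_two {α β γ : Type*} [DecidableEq α] [Fintype α] [DecidableEq β] [Fintype β] [DecidableEq γ] [Fintype γ]
    (e : (α ⊕ α) ⊕ β ≃ γ) (g : Perm α) : Perm.sign (two e g) = 1 := by
  have h1 : Perm.sign (two e g) = Perm.sign (Perm.sumCongr (Perm.sumCongr g g) (1 : Perm β)) :=
    Perm.sign_permCongr e _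
  rw [h1, Perm.sign_sumCongr, Perm.sign_sumCongr, Perm.sign_one, mul_one]
  exact Int.units_mul_self _

theorem alt_real {p n : ℕ} [hp : Fact p.Prime] (hn : 2 * p ≤ n) : HasReal p (alternatingGroup (Fin n)) := by
  have e : (ZMod p ⊕ ZMod p) ⊕ Fin (n - 2 * p) ≃ Fin n := by
    apply Fintype.equivOfCardEq
    simp only [Fintype.card_sum, ZMod.card, Fintype.card_fin]
    omega
  refine HasReal.map_injective ((two e).codRestrict (alternatingGroup (Fin n)) (fun g => ?_)) ?_
    hasReal_perm
  · rw [Perm.mem_alternatingGroup]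
    exact sign_two e g
  · intro g h hgh
    exact two_injective e (congrArg Subtype.val hgh)

theorem row_alt {S : Type*} [Group S] [Finite S] (h : Cfsg.IsAlternating S) {p : ℕ} [hp : Fact p.Prime] :
    HasReal p S ∨ ∀ P : Sylow p S, IsCyclic P := by
  obtain ⟨n, hn, ⟨e⟩⟩ := h
  by_cases hpn : 2 * p ≤ n
  · exact Or.inl (HasReal.map_equiv e.symm (alt_real hpn))
  · refine Or.inr (Cfsg.Agent.H469.sylow_congr e (fun P => ?_))
    apply Cfsg.Agent.H469.isCyclic_of_card
    intro hd
    have hc : 2 * Nat.card (alternatingGroup (Fin n)) = n.factorial := by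
      have hnt : Nontrivial (Fin n) := Fin.nontrivial_iff_two_le.mpr (by omega)
      rw [two_mul_nat_card_alternatingGroup, Nat.card_perm, Nat.card_eq_fintype_card, Fintype.card_fin]
    have h1 : p ^ 2 ∣ n.factorial := hc ▸ (hd.mul_left 2)
    -- the exponent of `p` in `n !`
    have h2 : ¬ p ^ 2 ∣ n.factorial := by
      rw [Nat.Prime.pow_dvd_factorial_iff hp.out (b := n + 1) (by
        rcases Nat.eq_zero_or_pos n with h0 | h0
        · omega
        · exact (Nat.log_lt_self p (by omega)).trans (Nat.lt_succ_self n))]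
      intro h3
      have h4 : ∑ i ∈ Finset.Ico 1 (n + 1), n / p ^ i ≤ 1 := by
        rw [← Finset.sum_Ico_consecutive _ (show 1 ≤ 2 by omega) (show 2 ≤ n + 1 by omega)]
        have h5 : ∑ i ∈ Finset.Ico 2 (n + 1), n / p ^ i = 0 := by
          apply Finset.sum_eq_zero
          intro i hi
          rw [Finset.mem_Ico] at hi
          apply Nat.div_eq_of_lt
          calc n < 2 * p := by omega
            _ ≤ p * p := Nat.mul_le_mul_right p hp.out.two_le
            _ = p ^ 2 := (sq p).symm
            _ ≤ p ^ i := Nat.pow_le_pow_right hp.out.pos hi.1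
        rw [h5, add_zero, Finset.sum_Ico_succ_top (by omega), Finset.Ico_self, Finset.sum_empty, zero_add, pow_one]
        have : n / p < 2 := (Nat.div_lt_iff_lt_mul hp.out.pos).2 (by omega)
        omega
      omega
    exact h2 h1

end Cfsg.Agent.H501.RowAlt
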