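import Mathlib
import Cfsg.Agent.H720.RowDef
import Cfsg.Agent.OddRank.SzTits
import Cfsg.Agent.S1156

/-!
# Table T(S, p), `S` a Suzuki group or a small Ree group

Cyclic Sylow `p`-subgroups: `Sz(q)`, `p` odd; `²G₂(q)`, `p > 3`.
-/

set_option autoImplicit false

namespace Cfsg.Agent.H501.RowSzRee

open Cfsg Cfsg.Agent.H720.RowDef

variable {G : Type*} [Group G]

theorem finite_suzuki (h : Lie.IsoSuzuki G) : Finite G := by
  obtain ⟨K, _, _, m, -, -, ⟨e⟩⟩ := h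
  exact Finite.of_equiv _ e.symm.toEquiv

theorem finite_ree (h : Lie.IsoRee G) : Finite G := by
  obtain ⟨K, _, _, m, -, -, ⟨e⟩⟩ := h
  exact Finite.of_equiv _ e.symm.toEquiv

theorem row_suzuki (h : Lie.IsoSuzuki G) {p : ℕ} [Fact p.Prime] (hp2 : p ≠ 2) : Row p G := by
  have := finite_suzuki h
  exact Or.inr (Or.inl fun P => OddRank.SzTits.isCyclic_of_isPGroup h hp2 P P.isPGroup')

theorem row_ree (h : Lie.IsoRee G) {p : ℕ} [Fact p.Prime] (hp3 : 3 < p) : Row p G := by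
  obtain ⟨K, _, _, m, hm, hK, ⟨e⟩⟩ := h
  exact Or.inr (Or.inl (cyclic_congr e.symm fun P => Cfsg.Agent.S1156.result hm hK hp3 P))

end Cfsg.Agent.H501.RowSzRee
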