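import Cfsg.Agent.PermutationGroups.HalfTransGalois

/-!
# Solvable linear groups transitive on the nonzero vectors in which `-1` is not a commutator

Variants of `PermutationGroups.HalfTransSpecial`, `HalfTransLinear`, `HalfTransGalois` without the
hypothesis that the group has odd order.
-/

set_option autoImplicit false

namespace Cfsg.Agent.H501.SolvTrans

/-- The special section over a maximal abelian normal subgroup `A`, when no involution of `A` is a
commutator. -/
theorem exists_special {H : Type*} [Group H] [Finite H] (hsol : Group.IsSolvable H)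
    (A : Subgroup H) [hAn : A.Normal]
    (hinv : ∀ c ∈ A, c ≠ 1 → c ^ 2 = 1 → ∀ x y : H, x * y * x⁻¹ * y⁻¹ ≠ c)
    (hAc : ∀ a ∈ A, ∀ b ∈ A, a * b = b * a)
    (hAmax : ∀ B : Subgroup H, B.Normal → (∀ a ∈ B, ∀ b ∈ B, a * b = b * a) → A ≤ B → B = A)
    (hcyc : IsCyclic A) (hC : ¬ Subgroup.centralizer (A : Set H) ≤ A) :
    ∃ (r : ℕ) (X : Subgroup H), r.Prime ∧ r ≠ 2 ∧ X.Normal ∧ (∀ x ∈ X, x ^ r = 1) ∧
      (∀ x ∈ X, ∀ a ∈ A, x * a = a * x) ∧ (∀ x ∈ X, ∀ y ∈ X, x * y * x⁻¹ * y⁻¹ ∈ A) ∧
      (∃ x ∈ X, x ∉ A) ∧ (∀ x ∈ X, x ∉ A → ∃ y ∈ X, x * y ≠ y * x) := by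
  classical
  set Q := H ⧸ A with hQ
  set π : H →* Q := QuotientGroup.mk' A with hπ
  have hπs : Function.Surjective π := QuotientGroup.mk'_surjective A
  have hπk : ∀ x : H, π x = 1 ↔ x ∈ A := fun x => QuotientGroup.eq_one_iff x
  have hQs : Group.IsSolvable Q := inferInstance
  set K : Subgroup Q := (Subgroup.centralizer (A : Set H)).map π with hK
  have hKn : K.Normal := Subgroup.Normal.map inferInstance π hπs
  have hKb : K ≠ ⊥ := by
    intro hb
    apply hC
    intro x hx
    rw [← hπk]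
    have : π x ∈ K := Subgroup.mem_map_of_mem π hx
    rwa [hb, Subgroup.mem_bot] at this
  -- a minimal normal subgroup of the quotient inside `K`
  obtain ⟨B', ⟨hB'n, hB'K, hB'b⟩, hB'min⟩ : ∃ B' : Subgroup Q,
      (B'.Normal ∧ B' ≤ K ∧ B' ≠ ⊥) ∧ ∀ B'' : Subgroup Q, B''.Normal → B'' ≠ ⊥ → B'' ≤ B' →
        B'' = B' := by
    have hfin : ({B' : Subgroup Q | B'.Normal ∧ B' ≤ K ∧ B' ≠ ⊥}).Finite := Set.toFinite _
    obtain ⟨B', hB'⟩ := hfin.exists_minimal ⟨K, hKn, le_rfl, hKb⟩
    refine ⟨B', hB'.1, fun B'' h1 h2 h3 => ?_⟩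
    exact le_antisymm h3 (hB'.2 ⟨h1, h3.trans hB'.1.2.1, h2⟩ h3)
  have hB'c : ∀ x ∈ B', ∀ y ∈ B', x * y = y * x := by
    have h1 : ⁅B', B'⁆ < B' := Group.IsSolvable.commutator_lt_of_ne_bot hB'b
    have h2 : ⁅B', B'⁆ = ⊥ := by
      by_contra h3
      have h4 : ⁅B', B'⁆.Normal := inferInstance
      exact h1.ne (hB'min _ h4 h3 h1.le)
    intro x hx y hy
    have h3 := Subgroup.commutator_mem_commutator hx hy
    rw [h2, Subgroup.mem_bot] at h3
    exact commutatorElement_eq_one_iff_mul_comm.mp h3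
  obtain ⟨r, hr, hrB⟩ := Nat.exists_prime_and_dvd (n := Nat.card B')
    (fun h => hB'b (Subgroup.card_eq_one.mp h))
  have hrFact : Fact r.Prime := ⟨hr⟩
  have hB'r : ∀ x ∈ B', x ^ r = 1 := by
    let D : Subgroup Q :=
      { carrier := {x | x ∈ B' ∧ x ^ r = 1}
        one_mem' := ⟨B'.one_mem, one_pow r⟩
        mul_mem' := by
          rintro x y ⟨hx, hxr⟩ ⟨hy, hyr⟩
          refine ⟨B'.mul_mem hx hy, ?_⟩
          have : Commute x y := hB'c x hx y hy
          rw [this.mul_pow, hxr, hyr, one_mul]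
        inv_mem' := by
          rintro x ⟨hx, hxr⟩
          exact ⟨B'.inv_mem hx, by rw [inv_pow, hxr, inv_one]⟩ }
    have hDn : D.Normal := ⟨by
      rintro x ⟨hx, hxr⟩ g
      exact ⟨hB'n.conj_mem x hx g, by rw [conj_pow, hxr]; simp⟩⟩
    have hDb : D ≠ ⊥ := by
      intro hb
      obtain ⟨z, hz⟩ := exists_prime_orderOf_dvd_card' r hrB
      have h1 : (z : Q) ∈ D := by
        refine ⟨z.2, ?_⟩
        have := pow_orderOf_eq_one z
        rw [hz] at this
        exact congrArg Subtype.val this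
      rw [hb, Subgroup.mem_bot] at h1
      have h2 : z = 1 := Subtype.ext h1
      rw [h2, orderOf_one] at hz
      exact hr.one_lt.ne hz
    have hDB : D = B' := hB'min D hDn hDb (fun x hx => hx.1)
    intro x hx
    rw [← hDB] at hx
    exact hx.2
  -- pull back
  set B : Subgroup H := B'.comap π with hB
  have hBn : B.Normal := hB'n.comap π
  have hAB : A ≤ B := by
    intro a ha
    rw [hB, Subgroup.mem_comap, (hπk a).mpr ha]
    exact B'.one_mem
  have hBA : B ≠ A := by
    intro h
    apply hB'b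
    rw [eq_bot_iff]
    intro x hx
    obtain ⟨y, rfl⟩ := hπs x
    have : y ∈ B := hx
    rw [h] at this
    rw [Subgroup.mem_bot, hπk]
    exact this
  have hBC : ∀ x ∈ B, ∀ a ∈ A, x * a = a * x := by
    intro x hx a ha
    obtain ⟨c, hc, hcx⟩ := Subgroup.mem_map.mp (hB'K hx)
    have h1 : c⁻¹ * x ∈ A := by
      rw [← hπk, map_mul, map_inv, hcx]; simp
    have h2 : c * a = a * c := ((Subgroup.mem_centralizer_iff.mp hc) a ha).symm
    have h3 := hAc _ h1 a ha
    calc x * a = c * (c⁻¹ * x * a) := by group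
      _ = c * (a * (c⁻¹ * x)) := by rw [h3]
      _ = (c * a) * (c⁻¹ * x) := by simp only [mul_assoc]
      _ = a * x := by rw [h2]; group
  have hBr : ∀ x ∈ B, x ^ r ∈ A := by
    intro x hx
    rw [← hπk, map_pow]
    exact hB'r _ hx
  have hBcomm : ∀ x ∈ B, ∀ y ∈ B, x * y * x⁻¹ * y⁻¹ ∈ A := by
    intro x hx y hy
    rw [← hπk]
    simp only [map_mul, map_inv]
    rw [hB'c _ hx _ hy]; simp
  have hBcr : ∀ x ∈ B, ∀ y ∈ B, (x * y * x⁻¹ * y⁻¹) ^ r = 1 := by
    intro x hx y hy
    set c := x * y * x⁻¹ * y⁻¹ with hc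
    have hcA : c ∈ A := hBcomm x hx y hy
    have h1 : x * y = c * (y * x) := by rw [hc]; group
    have h2 : c * y = y * c := (hBC y hy c hcA).symm
    have h3 := PermutationGroups.HalfTransSpecial.pow_mul_of h1 h2 r
    have h4 : x * y ^ r = y ^ r * x := hBC x hx _ (hBr y hy)
    rw [h4] at h3
    exact (mul_eq_right.mp h3.symm)
  have hBnc : ¬ (∀ a ∈ B, ∀ b ∈ B, a * b = b * a) := fun h => hBA (hAmax B hBn h hAB)
  have hr2 : r ≠ 2 := by
    rintro rfl
    apply hBnc
    intro a ha b hb
    by_contra hab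
    refine hinv _ (hBcomm a ha b hb) ?_ (hBcr a ha b hb) a b rfl
    intro h
    rw [mul_inv_eq_one, mul_inv_eq_iff_eq_mul] at h
    exact hab h
  have hrodd : Odd r := hr.odd_of_ne_two hr2
  have hBmul : ∀ x ∈ B, ∀ y ∈ B, (x * y) ^ r = x ^ r * y ^ r := by
    intro x hx y hy
    set c := x * y * x⁻¹ * y⁻¹ with hc
    have hcA : c ∈ A := hBcomm x hx y hy
    have h1 : x * y = c * (y * x) := by rw [hc]; group
    have h2 : c * y = y * c := (hBC y hy c hcA).symm
    have h2' : c * x = x * c := (hBC x hx c hcA).symm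
    have h3 := PermutationGroups.HalfTransSpecial.mul_pow_of h1 h2' h2 r
    have h4 : c ^ (r * (r - 1) / 2) = 1 := by
      obtain ⟨k, hk⟩ := hrodd
      have : r * (r - 1) / 2 = r * k := by
        rw [hk]; simp only [Nat.add_sub_cancel]
        rw [show (2 * k + 1) * (2 * k) = 2 * ((2 * k + 1) * k) by ring]
        exact Nat.mul_div_cancel_left _ (by norm_num)
      rw [this, pow_mul, hc, hBcr x hx y hy, one_pow]
    rw [h4, one_mul] at h3
    exact h3.symm
  let X : Subgroup H :=
    { carrier := {x | x ∈ B ∧ x ^ r = 1}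
      one_mem' := ⟨B.one_mem, one_pow r⟩
      mul_mem' := by
        rintro x y ⟨hx, hxr⟩ ⟨hy, hyr⟩
        refine ⟨B.mul_mem hx hy, ?_⟩
        rw [hBmul x hx y hy, hxr, hyr, one_mul]
      inv_mem' := by
        rintro x ⟨hx, hxr⟩
        exact ⟨B.inv_mem hx, by rw [inv_pow, hxr, inv_one]⟩ }
  have hXn : X.Normal := ⟨by
    rintro x ⟨hx, hxr⟩ g
    exact ⟨hBn.conj_mem x hx g, by rw [conj_pow, hxr]; simp⟩⟩
  refine ⟨r, X, hr, hr2, hXn, fun x hx => hx.2, fun x hx => hBC x hx.1,
    fun x hx y hy => hBcomm x hx.1 y hy.1, ?_, ?_⟩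
  · by_contra hcon
    push Not at hcon
    apply hBnc
    let f : B →* A :=
      { toFun := fun x => ⟨(x : H) ^ r, hBr x x.2⟩
        map_one' := Subtype.ext (one_pow r)
        map_mul' := fun x y => Subtype.ext (hBmul x x.2 y y.2) }
    have hker : f.ker ≤ Subgroup.center B := by
      intro x hx
      rw [MonoidHom.mem_ker] at hx
      have h1 : (x : H) ^ r = 1 := congrArg Subtype.val hx
      have h2 : (x : H) ∈ A := hcon x ⟨x.2, h1⟩
      rw [Subgroup.mem_center_iff]
      intro g
      exact Subtype.ext (hBC g g.2 x h2)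
    intro a ha b hb
    have := (MonoidHom.isMulCommutative_of_isCyclic_of_ker_le_center f hker).is_comm.comm
      ⟨a, ha⟩ ⟨b, hb⟩
    exact congrArg Subtype.val this
  · intro x hx hxA
    by_contra hcon
    push Not at hcon
    -- the subgroup of central elements of `X` times `A`
    let Z : Subgroup H :=
      { carrier := {z | z ∈ X ∧ ∀ y ∈ X, z * y = y * z}
        one_mem' := ⟨X.one_mem, fun y _ => by simp⟩
        mul_mem' := by
          rintro a b ⟨ha, ha'⟩ ⟨hb, hb'⟩
          refine ⟨X.mul_mem ha hb, fun y hy => ?_⟩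
          rw [mul_assoc, hb' y hy, ← mul_assoc, ha' y hy, mul_assoc]
        inv_mem' := by
          rintro a ⟨ha, ha'⟩
          refine ⟨X.inv_mem ha, fun y hy => ?_⟩
          rw [inv_mul_eq_iff_eq_mul, ← mul_assoc, ha' y hy, mul_assoc, mul_inv_cancel, mul_one] }
    have hZn : Z.Normal := ⟨by
      rintro z ⟨hz, hz'⟩ g
      refine ⟨hXn.conj_mem z hz g, fun y hy => ?_⟩
      have h1 := hz' (g⁻¹ * y * g) (by simpa using hXn.conj_mem y hy g⁻¹)
      calc g * z * g⁻¹ * y = g * (z * (g⁻¹ * y * g)) * g⁻¹ := by group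
        _ = g * ((g⁻¹ * y * g) * z) * g⁻¹ := by rw [h1]
        _ = y * (g * z * g⁻¹) := by group⟩
    have hZA : (Z ⊔ A) = A := by
      apply hAmax _ (Subgroup.sup_normal Z A) _ le_sup_right
      intro a ha b hb
      obtain ⟨z1, hz1, a1, ha1, rfl⟩ := Subgroup.mem_sup_of_normal_right.mp ha
      obtain ⟨z2, hz2, a2, ha2, rfl⟩ := Subgroup.mem_sup_of_normal_right.mp hb
      have e1 : a1 * z2 = z2 * a1 := (hBC z2 hz2.1.1 a1 ha1).symm
      have e2 : a2 * z1 = z1 * a2 := (hBC z1 hz1.1.1 a2 ha2).symm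
      calc z1 * a1 * (z2 * a2) = z1 * (a1 * z2) * a2 := by simp only [mul_assoc]
        _ = (z1 * z2) * (a1 * a2) := by rw [e1]; simp only [mul_assoc]
        _ = (z2 * z1) * (a2 * a1) := by rw [hz1.2 z2 hz2.1, hAc a1 ha1 a2 ha2]
        _ = z2 * (z1 * a2) * a1 := by simp only [mul_assoc]
        _ = z2 * a2 * (z1 * a1) := by rw [← e2]; simp only [mul_assoc]
    apply hxA
    rw [← hZA]
    exact Subgroup.mem_sup_left ⟨hx, hcon⟩


open Cfsg.Agent.PermutationGroups.HalfTransField
open Cfsg.Agent.PermutationGroups.HalfTransCount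
open Cfsg.Agent.PermutationGroups.HalfTransLinear

variable {V : Type*} [AddCommGroup V] [Finite V] {H : Type*} [Group H] [Finite H]
  [DistribMulAction H V]

theorem exists_field (p : ℕ) [hpF : Fact p.Prime] (hpV : ∀ v : V, p • v = 0) [Nontrivial V]
    [FaithfulSMul H V] (hsol : Group.IsSolvable H)
    (hneg : p ≠ 2 → ∀ x y : H, ¬ ∀ v : V, (x * y * x⁻¹ * y⁻¹) • v = -v)
    (hT0 : ∀ v w : V, v ≠ 0 → w ≠ 0 → ∃ h : H, h • v = w) :
    ∃ E : Subring (AddMonoid.End V), (∀ x ∈ E, ∀ y ∈ E, x * y = y * x) ∧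
      (∀ h : H, ∀ x ∈ E, (tau h : AddMonoid.End V) * x * tau h⁻¹ ∈ E) ∧
      (∀ v : V, v ≠ 0 → ∀ w : V, ∃ x ∈ E, x v = w) ∧
      (∀ x ∈ E, ∀ v : V, v ≠ 0 → x v = 0 → x = 0) := by
  classical
  have hT : ∀ v w : V, v ≠ 0 → w ≠ 0 → ∃ h : H, h • v = w ∨ h • v = -w := by
    intro v w hv hw
    obtain ⟨h, hh⟩ := hT0 v w hv hw
    exact ⟨h, Or.inl hh⟩
  have hfinE : Finite (AddMonoid.End V) := finite_end
  -- a maximal abelian normal subgroup
  obtain ⟨A, ⟨hAn, hAc⟩, hAmax⟩ : ∃ A : Subgroup H,
      (A.Normal ∧ ∀ a ∈ A, ∀ b ∈ A, a * b = b * a) ∧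
      ∀ B : Subgroup H, B.Normal → (∀ a ∈ B, ∀ b ∈ B, a * b = b * a) → A ≤ B → B = A := by
    have hfin : ({A : Subgroup H | A.Normal ∧ ∀ a ∈ A, ∀ b ∈ A, a * b = b * a}).Finite :=
      Set.toFinite _
    obtain ⟨A, hA⟩ := hfin.exists_maximal ⟨⊥, inferInstance, by
      intro a ha b hb
      rw [Subgroup.mem_bot] at ha hb
      rw [ha, hb]⟩
    refine ⟨A, hA.1, fun B h1 h2 h3 => le_antisymm (hA.2 ⟨h1, h2⟩ h3) h3⟩
  set E : Subring (AddMonoid.End V) := ringOf A with hE
  have hEc : ∀ x ∈ E, ∀ y ∈ E, x * y = y * x := ringOf_comm A hAc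
  have hEn : ∀ h : H, ∀ x ∈ E, (tau h : AddMonoid.End V) * x * tau h⁻¹ ∈ E := ringOf_conj A hAn
  have hEd : ∀ x ∈ E, ∀ v : V, v ≠ 0 → x v = 0 → x = 0 := fun x hx v hv hxv =>
    eq_zero_of_apply_eq_zero E hT hEc hEn hx hv hxv
  refine ⟨E, hEc, hEn, ?_, hEd⟩
  obtain ⟨v0, hv0⟩ := exists_ne (0 : V)
  -- field structure
  have hEfin : Finite E := inferInstance
  have hEnt : Nontrivial E := ⟨⟨0, 1, fun h => by
    have h1 : (0 : AddMonoid.End V) = 1 := congrArg Subtype.val h
    apply hv0
    have h2 : (0 : AddMonoid.End V) v0 = (1 : AddMonoid.End V) v0 := by rw [h1]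
    exact h2.symm⟩⟩
  let : CommRing E := { (inferInstance : Ring E) with
    mul_comm := fun x y => Subtype.ext (hEc x.1 x.2 y.1 y.2) }
  have hEdom : IsDomain E := by
    have : NoZeroDivisors E := ⟨by
      intro x y hxy
      by_contra hcon
      push Not at hcon
      obtain ⟨hx, hy⟩ := hcon
      have hyv : y.1 v0 ≠ 0 := fun h => hy (Subtype.ext (hEd y.1 y.2 v0 hv0 h))
      apply hx
      apply Subtype.ext
      apply hEd x.1 x.2 _ hyv
      have h1 : x.1 * y.1 = 0 := congrArg Subtype.val hxy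
      have h2 : (x.1 * y.1) v0 = (0 : AddMonoid.End V) v0 := by rw [h1]
      exact h2⟩
    exact NoZeroDivisors.to_isDomain E
  have hEfield : IsField E := Finite.isField_of_domain E
  let : Field E := hEfield.toField
  have hEp : CharP E p := by
    rw [CharP.charP_iff_prime_eq_zero hpF.out]
    apply Subtype.ext
    apply hEd _ (p : E).2 v0 hv0
    have : ((p : E) : AddMonoid.End V) = (p : AddMonoid.End V) := by push_cast; rfl
    rw [this]
    have h2 : (p : AddMonoid.End V) v0 = p • v0 := rfl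
    rw [h2, hpV]
  -- `A` embeds into `E`
  have htauinj : Function.Injective (fun h : H => (tau h : AddMonoid.End V)) := by
    intro g h hgh
    apply (‹FaithfulSMul H V›).eq_of_smul_eq_smul (α := V)
    intro v
    exact DFunLike.congr_fun hgh v
  let fA : A →* E :=
    { toFun := fun a => ⟨tau a.1, tau_mem_ringOf A a.2⟩
      map_one' := Subtype.ext (tau_one)
      map_mul' := fun a b => Subtype.ext (tau_mul a.1 b.1) }
  have hfA : Function.Injective fA := by
    intro a b hab
    exact Subtype.ext (htauinj (congrArg Subtype.val hab))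
  have hAcyc : IsCyclic A := isCyclic_of_injective_ringHom fA hfA
  have hAfree : ∀ a ∈ A, a ≠ 1 → ∀ v : V, a • v = v → v = 0 := by
    intro a ha ha1 v hav
    by_contra hv
    apply ha1
    apply htauinj
    change (tau a : AddMonoid.End V) = tau 1
    rw [tau_one, ← sub_eq_zero]
    apply hEd _ (E.sub_mem (tau_mem_ringOf A ha) E.one_mem) v hv
    change a • v - v = 0
    rw [hav, sub_self]
  have hinv : ∀ c ∈ A, c ≠ 1 → c ^ 2 = 1 → ∀ x y : H, x * y * x⁻¹ * y⁻¹ ≠ c := by
    intro c hc hc1 hc2 x y hxy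
    have h1 : fA ⟨c, hc⟩ ^ 2 = 1 := by
      rw [← map_pow, show (⟨c, hc⟩ : A) ^ 2 = 1 from Subtype.ext hc2, map_one]
    have h1' : (fA ⟨c, hc⟩ - 1) * (fA ⟨c, hc⟩ + 1) = 0 := by
      linear_combination h1
    rcases mul_eq_zero.mp h1' with h2 | h2
    · rw [sub_eq_zero] at h2
      apply hc1
      have h3 : fA ⟨c, hc⟩ = fA 1 := by rw [h2, map_one]
      exact congrArg Subtype.val (hfA h3)
    · replace h2 := eq_neg_of_add_eq_zero_left h2
      by_cases hp2 : p = 2
      · subst hp2
        apply hc1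
        have h3 : fA ⟨c, hc⟩ = fA 1 := by
          rw [h2, map_one]
          have h4 : ((2 : ℕ) : E) = 0 := CharP.cast_eq_zero E 2
          push_cast at h4
          linear_combination -h4
        exact congrArg Subtype.val (hfA h3)
      · apply hneg hp2 x y
        intro v
        rw [hxy]
        have h3 : (tau c : AddMonoid.End V) = -1 := congrArg Subtype.val h2
        have h4 := DFunLike.congr_fun h3 v
        exact h4
  -- self-centralising
  have hC : Subgroup.centralizer (A : Set H) ≤ A := by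
    by_contra hC
    obtain ⟨r, X, hr, hr2, hXn, hXr, hXA, hXc, hne, hcen⟩ :=
      exists_special hsol A hinv hAc hAmax hAcyc hC
    refine PermutationGroups.HalfTransNoSpecial.no_special hT A X hAc hAfree hAcyc hXn hr hr2 ?_ hXr hXA hXc hne hcen
    intro v hv
    by_contra hv0'
    -- then `r = p`, and an element of order `r` of `A` would be unipotent
    have hrp : r = p := by
      by_contra hrp
      have hcop : Nat.Coprime r p := (Nat.coprime_primes hr hpF.out).mpr hrp
      have h1 : (Nat.gcd r p) • v = 0 := by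
        have h2 : ((Nat.gcd r p : ℕ) : ℤ) • v = 0 := by
          rw [Nat.gcd_eq_gcd_ab, add_smul, mul_comm, mul_smul, mul_comm, mul_smul]
          rw [natCast_zsmul, natCast_zsmul, hv, hpV]; simp
        rwa [natCast_zsmul] at h2
      rw [hcop, one_smul] at h1
      exact hv0' h1
    obtain ⟨x, hx, hxA⟩ := hne
    obtain ⟨y, hy, hxy⟩ := hcen x hx hxA
    have hcA := hXc x hx y hy
    have hcr : (x * y * x⁻¹ * y⁻¹) ^ r = 1 :=
      hXr _ (X.mul_mem (X.mul_mem (X.mul_mem hx hy) (X.inv_mem hx)) (X.inv_mem hy))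
    have hc1 : x * y * x⁻¹ * y⁻¹ ≠ 1 := by
      intro h
      rw [mul_inv_eq_one, mul_inv_eq_iff_eq_mul] at h
      exact hxy h
    set c : A := ⟨x * y * x⁻¹ * y⁻¹, hcA⟩ with hc
    have h3 : fA c ^ p = 1 := by
      rw [← map_pow, show c ^ p = 1 from Subtype.ext (hrp ▸ hcr), map_one]
    have h4 : (fA c - 1) ^ p = 0 := by
      rw [sub_pow_char, h3, one_pow, sub_self]
    have h5 : fA c - 1 = 0 := pow_eq_zero_iff (hpF.out.ne_zero) |>.mp h4
    have h6 : fA c = fA 1 := by rw [map_one]; exact sub_eq_zero.mp h5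
    exact hc1 (congrArg Subtype.val (hfA h6))
  -- the bound for `H`
  obtain ⟨d, hd, haut⟩ := card_ringAut_le p E
  let c : H →* RingAut E := conjAut E hEn
  have hker : c.ker ≤ A := by
    intro h hh
    apply hC
    rw [Subgroup.mem_centralizer_iff]
    intro a ha
    rw [MonoidHom.mem_ker] at hh
    have h1 : c h (fA ⟨a, ha⟩) = fA ⟨a, ha⟩ := by rw [hh]; rfl
    have h2 : (tau h : AddMonoid.End V) * tau a * tau h⁻¹ = tau a := congrArg Subtype.val h1
    rw [← tau_mul, ← tau_mul] at h2
    have h3 := htauinj h2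
    rw [mul_inv_eq_iff_eq_mul] at h3
    exact h3.symm
  have hHcard : Nat.card H ≤ d * Nat.card A := by
    have hfa : Finite (RingAut E) :=
      Finite.of_injective (fun f : RingAut E => (f : E → E)) DFunLike.coe_injective
    rw [← Subgroup.card_mul_index c.ker, Subgroup.index_ker, mul_comm]
    apply Nat.mul_le_mul
    · exact (Subgroup.card_le_card_group c.range).trans haut
    · exact Nat.card_le_card_of_injective (Subgroup.inclusion hker) (Subgroup.inclusion_injective hker)
  have hAcard : Nat.card A + 1 ≤ Nat.card E := by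
    have hfA0 : ∀ a : A, fA a ≠ 0 := by
      intro a h
      have h2 : fA a * fA a⁻¹ = 1 := by rw [← map_mul, mul_inv_cancel, map_one]
      rw [h, zero_mul] at h2
      exact zero_ne_one h2
    let f : Option A → E := fun o => match o with
      | none => 0
      | some a => fA a
    have hf : Function.Injective f := by
      intro o o' hoo
      rcases o with _ | a <;> rcases o' with _ | b
      · rfl
      · exact absurd hoo.symm (hfA0 b)
      · exact absurd hoo (hfA0 a)
      · exact congrArg some (hfA hoo)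
    have := Nat.card_le_card_of_injective f hf
    rwa [Finite.card_option] at this
  have hVcard : Nat.card V ≤ 2 * Nat.card H + 1 := by
    let f : Option (H × Bool) → V := fun o => match o with
      | none => 0
      | some (h, true) => h • v0
      | some (h, false) => -(h • v0)
    have hf : Function.Surjective f := by
      intro w
      by_cases hw : w = 0
      · exact ⟨none, hw.symm⟩
      · obtain ⟨h, hh | hh⟩ := hT v0 w hv0 hw
        · exact ⟨some (h, true), hh⟩
        · refine ⟨some (h, false), ?_⟩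
          change -(h • v0) = w
          rw [hh, neg_neg]
    have := Nat.card_le_card_of_surjective f hf
    rw [Finite.card_option, Nat.card_prod] at this
    simpa [mul_comm] using this
  have hVE : ∃ m : ℕ, Nat.card V = Nat.card E ^ m := by
    let : Module E V :=
      { smul := fun x v => x.1 v
        one_smul := fun v => rfl
        mul_smul := fun x y v => rfl
        smul_zero := fun x => map_zero x.1
        smul_add := fun x v w => map_add x.1 v w
        add_smul := fun x y v => rfl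
        zero_smul := fun v => rfl }
    have : Module.Finite E V := inferInstance
    exact ⟨_, Module.natCard_eq_pow_finrank (K := E) (V := V)⟩
  obtain ⟨m, hm⟩ := hVE
  have hm1 : m = 1 := by
    have hE2 : 2 ≤ Nat.card E := Finite.one_lt_card
    have hV2 : 2 ≤ Nat.card V := Finite.one_lt_card
    rcases Nat.lt_or_ge m 2 with h | h
    · interval_cases m
      · rw [hm, pow_zero] at hV2; omega
      · rfl
    · exfalso
      have h1 : Nat.card E ^ 2 ≤ Nat.card V := by
        rw [hm]; exact Nat.pow_le_pow_right (by omega) h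
      have h2 : 2 * d ≤ Nat.card E := by
        rw [hd]
        have h3 : 2 ^ d ≤ p ^ d := Nat.pow_le_pow_left hpF.out.two_le d
        have h4 : ∀ n : ℕ, 1 ≤ n → 2 * n ≤ 2 ^ n := by
          intro n hn
          induction n, hn using Nat.le_induction with
          | base => norm_num
          | succ n hn ih => rw [pow_succ]; omega
        rcases Nat.eq_zero_or_pos d with h5 | h5
        · rw [h5]; positivity
        · exact (h4 d h5).trans h3
      obtain ⟨e, he⟩ : ∃ e, Nat.card E = e + 1 := ⟨Nat.card E - 1, by omega⟩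
      rw [he] at hAcard h1 h2 hE2
      have h6 : Nat.card A ≤ e := by omega
      have h7 : d * Nat.card A ≤ d * e := Nat.mul_le_mul_left _ h6
      have h8 : 2 * (d * e) ≤ (e + 1) * e := by nlinarith
      have h9 : (e + 1) ^ 2 ≤ (e + 1) * e + 1 := by
        calc (e + 1) ^ 2 ≤ Nat.card V := h1
          _ ≤ 2 * Nat.card H + 1 := hVcard
          _ ≤ 2 * (d * Nat.card A) + 1 := by omega
          _ ≤ (e + 1) * e + 1 := by omega
      nlinarith
  rw [hm1, pow_one] at hm
  intro v hv w
  have hinj : Function.Injective (fun x : E => x.1 v) := by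
    intro x y hxy
    apply Subtype.ext
    rw [← sub_eq_zero]
    apply hEd _ (E.sub_mem x.2 y.2) v hv
    change x.1 v - y.1 v = 0
    exact sub_eq_zero.mpr hxy
  have hbij := (Nat.bijective_iff_injective_and_card (fun x : E => x.1 v)).mpr ⟨hinj, hm.symm⟩
  obtain ⟨x, hx⟩ := hbij.2 w
  exact ⟨x.1, x.2, hx⟩

/-- A solvable group acting on `V`, transitive on the nonzero vectors, in which `-1` is not a
commutator (`p` odd), is a group of semilinear maps of a one-dimensional space over a finite field. -/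
theorem exists_galois (p : ℕ) [hpF : Fact p.Prime] (hpV : ∀ v : V, p • v = 0) [Nontrivial V]
    [FaithfulSMul H V] (hsol : Group.IsSolvable H)
    (hneg : p ≠ 2 → ∀ x y : H, ¬ ∀ v : V, (x * y * x⁻¹ * y⁻¹) • v = -v)
    (hT : ∀ v w : V, v ≠ 0 → w ≠ 0 → ∃ h : H, h • v = w) :
    ∃ (f : ℕ) (θ : V ≃+ GaloisField p f), Nat.card V = p ^ f ∧
      ∀ h : H, ∃ (c : (GaloisField p f)ˣ) (φ : GaloisField p f ≃+* GaloisField p f),
        ∀ v : V, θ (h • v) = c * φ (θ v) := by
  classical
  obtain ⟨E, hEc, hEn, hEt, hEd⟩ := exists_field p hpV hsol hneg hT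
  have hfinE : Finite (AddMonoid.End V) := finite_end
  obtain ⟨v0, hv0⟩ := exists_ne (0 : V)
  -- field structure
  have hEfin : Finite E := inferInstance
  have hEnt : Nontrivial E := ⟨⟨0, 1, fun h => by
    have h1 : (0 : AddMonoid.End V) = 1 := congrArg Subtype.val h
    apply hv0
    have h2 : (0 : AddMonoid.End V) v0 = (1 : AddMonoid.End V) v0 := by rw [h1]
    exact h2.symm⟩⟩
  let : CommRing E := { (inferInstance : Ring E) with
    mul_comm := fun x y => Subtype.ext (hEc x.1 x.2 y.1 y.2) }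
  have hEdom : IsDomain E := by
    have : NoZeroDivisors E := ⟨by
      intro x y hxy
      by_contra hcon
      push Not at hcon
      obtain ⟨hx, hy⟩ := hcon
      have hyv : y.1 v0 ≠ 0 := fun h => hy (Subtype.ext (hEd y.1 y.2 v0 hv0 h))
      apply hx
      apply Subtype.ext
      apply hEd x.1 x.2 _ hyv
      have h1 : x.1 * y.1 = 0 := congrArg Subtype.val hxy
      have h2 : (x.1 * y.1) v0 = (0 : AddMonoid.End V) v0 := by rw [h1]
      exact h2⟩
    exact NoZeroDivisors.to_isDomain E
  have hEfield : IsField E := Finite.isField_of_domain E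
  let : Field E := hEfield.toField
  have hEp : CharP E p := by
    rw [CharP.charP_iff_prime_eq_zero hpF.out]
    apply Subtype.ext
    apply hEd _ (p : E).2 v0 hv0
    have : ((p : E) : AddMonoid.End V) = (p : AddMonoid.End V) := by push_cast; rfl
    rw [this]
    have h2 : (p : AddMonoid.End V) v0 = p • v0 := rfl
    rw [h2, hpV]
  obtain ⟨f, hf, -⟩ := card_ringAut_le p E
  have hf0 : f ≠ 0 := by
    rintro rfl
    rw [pow_zero] at hf
    have : 1 < Nat.card E := Finite.one_lt_card
    omega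
  -- evaluation at `v0`
  have hinj : Function.Injective (fun x : E => x.1 v0) := by
    intro x y hxy
    apply Subtype.ext
    rw [← sub_eq_zero]
    apply hEd _ (E.sub_mem x.2 y.2) v0 hv0
    change x.1 v0 - y.1 v0 = 0
    exact sub_eq_zero.mpr hxy
  have hsurj : Function.Surjective (fun x : E => x.1 v0) := by
    intro w
    obtain ⟨x, hx, hxw⟩ := hEt v0 hv0 w
    exact ⟨⟨x, hx⟩, hxw⟩
  let ev : E ≃+ V := AddEquiv.mk' (Equiv.ofBijective (fun x : E => x.1 v0) ⟨hinj, hsurj⟩)
    (fun x y => rfl)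
  have hev : ∀ x : E, ev x = x.1 v0 := fun x => rfl
  have hcard : Nat.card V = p ^ f := by rw [← hf]; exact (Nat.card_congr ev.toEquiv).symm
  have hfE : Fintype E := Fintype.ofFinite E
  have hfG : Fintype (GaloisField p f) := Fintype.ofFinite _
  let ι : E ≃+* GaloisField p f := FiniteField.ringEquivOfCardEq (by
    rw [← Nat.card_eq_fintype_card, ← Nat.card_eq_fintype_card, hf, GaloisField.card p f hf0])
  refine ⟨f, ev.symm.trans ι.toAddEquiv, hcard, ?_⟩
  intro h
  -- the multiplier
  set c : E := ev.symm (h • v0) with hc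
  have hcv : c.1 v0 = h • v0 := ev.apply_symm_apply (h • v0)
  have hc0 : c ≠ 0 := by
    intro h0
    rw [h0] at hcv
    have h1 : h • v0 = 0 := hcv.symm
    apply hv0
    have := congrArg (fun t => h⁻¹ • t) h1
    simpa using this
  refine ⟨Units.mk0 (ι c) (by simpa using hc0), (ι.symm.trans (conjAut E hEn h)).trans ι, ?_⟩
  intro v
  obtain ⟨x, rfl⟩ := ev.surjective v
  have h1 : ev.symm (h • ev x) = c * conjAut E hEn h x := by
    rw [AddEquiv.symm_apply_eq, hev, hev]
    have h2 : c * conjAut E hEn h x = conjAut E hEn h x * c := mul_comm _ _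
    rw [h2]
    change h • x.1 v0 = (conjAut E hEn h x).1 (c.1 v0)
    rw [hcv, conjAut_apply]
    change _ = h • (x.1 (h⁻¹ • (h • v0)))
    rw [inv_smul_smul]
  change ι (ev.symm (h • ev x)) = ι c * ι (conjAut E hEn h (ι.symm (ι (ev.symm (ev x)))))
  rw [h1, map_mul, AddEquiv.symm_apply_apply, RingEquiv.symm_apply_apply]


end Cfsg.Agent.H501.SolvTrans
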